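import Mathlib

/-!
# The conjugates of `x + x⁻¹` for the `r`-th roots of unity `x ≠ 1` over a finite field

Owner: helper70.
-/

set_option autoImplicit false

namespace Cfsg.Agent.Lib.Elem70.ClassCount

open Polynomial

variable (F : Type*) [Field F] [Finite F]

/-- The elements `x + x⁻¹`, `x ≠ 1` an `r`-th root of unity. -/
noncomputable def realRoots (r : ℕ) : Finset (AlgebraicClosure F) := by
  classical
  exact ((nthRootsFinset r (1 : AlgebraicClosure F)).erase 1).image (fun x => x + x⁻¹)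

variable {F}

theorem mem_realRoots {r : ℕ} (hr : 0 < r) {a : AlgebraicClosure F} :
    a ∈ realRoots F r ↔ ∃ x : AlgebraicClosure F, x ^ r = 1 ∧ x ≠ 1 ∧ x + x⁻¹ = a := by
  classical
  simp only [realRoots, Finset.mem_image, Finset.mem_erase, mem_nthRootsFinset hr]
  exact ⟨fun ⟨x, ⟨h1, h2⟩, h3⟩ => ⟨x, h2, h1, h3⟩, fun ⟨x, h2, h1, h3⟩ => ⟨x, ⟨h1, h2⟩, h3⟩⟩

theorem add_inv_eq_iff {K : Type*} [Field K] {x y : K} (hx : x ≠ 0) (hy : y ≠ 0) :
    x + x⁻¹ = y + y⁻¹ ↔ x = y ∨ x = y⁻¹ := by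
  constructor
  · intro h
    have h1 : (x - y) * (x * y - 1) = 0 := by
      field_simp at h
      linear_combination h
    rcases mul_eq_zero.1 h1 with h2 | h2
    · exact Or.inl (sub_eq_zero.1 h2)
    · exact Or.inr (eq_inv_of_mul_eq_one_left (sub_eq_zero.1 h2))
  · rintro (rfl | rfl)
    · rfl
    · rw [inv_inv, add_comm]

theorem ne_inv_self {K : Type*} [Field K] {r : ℕ} (hodd : Odd r) {x : K} (hx : x ^ r = 1) (h1 : x ≠ 1) :
    x ≠ x⁻¹ := by
  intro h
  have hx0 : x ≠ 0 := fun h0 => by rw [h0, zero_pow hodd.pos.ne'] at hx; exact zero_ne_one hx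
  have h2 : x ^ 2 = 1 := by
    rw [sq]; nth_rewrite 2 [h]; exact mul_inv_cancel₀ hx0
  obtain ⟨k, rfl⟩ := hodd
  rw [pow_succ, pow_mul, h2, one_pow, one_mul] at hx
  exact h1 hx

theorem card_realRoots {p r : ℕ} [CharP F p] (hr : r.Prime) (hr2 : r ≠ 2) (hrp : ¬ p ∣ r) :
    2 * (realRoots F r).card = r - 1 := by
  classical
  have hodd : Odd r := hr.odd_of_ne_two hr2
  haveI : CharP (AlgebraicClosure F) p :=
    charP_of_injective_algebraMap (algebraMap F (AlgebraicClosure F)).injective p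
  haveI : NeZero ((r : ℕ) : AlgebraicClosure F) := ⟨by rw [Ne, CharP.cast_eq_zero_iff _ p]; exact hrp⟩
  haveI : NeZero r := ⟨hr.pos.ne'⟩
  obtain ⟨ζ, hζ⟩ := HasEnoughRootsOfUnity.exists_primitiveRoot (AlgebraicClosure F) r
  set μ := (nthRootsFinset r (1 : AlgebraicClosure F)).erase 1 with hμ
  have hμc : μ.card = r - 1 := by
    rw [hμ, Finset.card_erase_of_mem (by rw [mem_nthRootsFinset hr.pos]; exact one_pow r),
      hζ.card_nthRootsFinset]
  have hmem : ∀ {x}, x ∈ μ ↔ x ≠ 1 ∧ x ^ r = 1 := fun {x} => by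
    rw [hμ, Finset.mem_erase, mem_nthRootsFinset hr.pos]
  have h0 : ∀ {x : AlgebraicClosure F}, x ^ r = 1 → x ≠ 0 := fun {x} hx h => by
    rw [h, zero_pow hr.pos.ne'] at hx; exact zero_ne_one hx
  rw [← hμc, Finset.card_eq_sum_card_image (fun x => x + x⁻¹) μ, mul_comm]
  refine (Finset.sum_const_nat fun a ha => ?_).symm
  obtain ⟨x, hx, rfl⟩ := Finset.mem_image.1 ha
  obtain ⟨hx1, hxr⟩ := hmem.1 hx
  have hfib : μ.filter (fun y => y + y⁻¹ = x + x⁻¹) = {x, x⁻¹} := by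
    ext y
    rw [Finset.mem_filter, Finset.mem_insert, Finset.mem_singleton, hmem]
    constructor
    · rintro ⟨⟨-, hy⟩, h⟩
      exact (add_inv_eq_iff (h0 hy) (h0 hxr)).1 h
    · rintro (rfl | rfl)
      · exact ⟨⟨hx1, hxr⟩, rfl⟩
      · exact ⟨⟨fun h => hx1 (inv_eq_one.1 h), by rw [inv_pow, hxr, inv_one]⟩, by rw [inv_inv, add_comm]⟩
  rw [hfib, Finset.card_pair (ne_inv_self hodd hxr hx1)]

theorem realRoots_closed {r : ℕ} (hr : 0 < r) (σ : AlgebraicClosure F ≃ₐ[F] AlgebraicClosure F)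
    {a : AlgebraicClosure F} (ha : a ∈ realRoots F r) : σ a ∈ realRoots F r := by
  obtain ⟨x, hxr, hx1, rfl⟩ := (mem_realRoots hr).1 ha
  exact (mem_realRoots hr).2 ⟨σ x, by rw [← map_pow, hxr, map_one],
    fun h => hx1 (σ.injective (h.trans (map_one σ).symm)), by rw [map_add, map_inv₀]⟩

/-- The degree of `x + x⁻¹` over `F`. -/
theorem natDegree_minpoly {p r : ℕ} [Fact p.Prime] [CharP F p] (hr : r.Prime) (hr2 : r ≠ 2)
    (hrp : r ≠ p) {i d : ℕ} (hi : i = orderOf (Nat.card F : ZMod r))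
    (hd : d = if Odd i then i else i / 2) {a : AlgebraicClosure F} (ha : a ∈ realRoots F r) :
    (minpoly F a).natDegree = d := by
  have hp := (Fact.out : p.Prime)
  haveI := Fact.mk hr
  haveI : Fintype F := Fintype.ofFinite F
  obtain ⟨f, -, hf⟩ := FiniteField.card F p
  haveI : CharP (AlgebraicClosure F) p :=
    charP_of_injective_algebraMap (algebraMap F (AlgebraicClosure F)).injective p
  obtain ⟨x, hxr, hx1, rfl⟩ := (mem_realRoots hr.pos).1 ha
  set Q := Nat.card F with hQ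
  have hQf : Q = p ^ (f : ℕ) := by rw [hQ, Nat.card_eq_fintype_card, hf]
  have hx0 : x ≠ 0 := fun h => by rw [h, zero_pow hr.pos.ne'] at hxr; exact zero_ne_one hxr
  have hox : orderOf x = r := orderOf_eq_prime hxr hx1
  have hfrob : ∀ k : ℕ, (x + x⁻¹) ^ Q ^ k = x ^ Q ^ k + (x ^ Q ^ k)⁻¹ := fun k => by
    rw [hQf, ← pow_mul, add_pow_char_pow, inv_pow]
  have hint : IsIntegral F (x + x⁻¹) := Algebra.IsIntegral.isIntegral _
  -- powers of `Q` that are `±1` modulo `r`
  have hpm : ∀ k : ℕ, d ∣ k ↔ ((Q : ZMod r) ^ k = 1 ∨ (Q : ZMod r) ^ k = -1) := by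
    have h2 : (2 : ZMod r) ≠ 0 := fun h => hr2 ((Nat.prime_dvd_prime_iff_eq hr Nat.prime_two).1
      ((ZMod.natCast_eq_zero_iff 2 r).1 (by exact_mod_cast h)))
    have hdvd : ∀ k, (Q : ZMod r) ^ k = 1 ↔ i ∣ k := fun k => by
      rw [hi, orderOf_dvd_iff_pow_eq_one]
    intro k
    rcases Nat.even_or_odd i with he | ho
    · rw [if_neg (Nat.not_odd_iff_even.2 he)] at hd
      obtain ⟨j, hj⟩ := he
      have hjd : d = j := by omega
      have hi0 : 0 < i := by
        rw [hi]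
        refine Nat.pos_of_ne_zero fun h => ?_
        have hne : (Q : ZMod r) ≠ 0 := fun h0 => by
          rw [ZMod.natCast_eq_zero_iff, hQf] at h0
          exact hrp ((Nat.prime_dvd_prime_iff_eq hr hp).1 (hr.dvd_of_dvd_pow h0))
        rw [orderOf_eq_zero_iff'] at h
        exact h (r - 1) (Nat.sub_pos_of_lt hr.one_lt) (ZMod.pow_card_sub_one_eq_one hne)
      have hneg : (Q : ZMod r) ^ j = -1 := by
        have h1 : ((Q : ZMod r) ^ j) ^ 2 = 1 := by rw [← pow_mul, hdvd]; exact ⟨1, by omega⟩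
        rcases sq_eq_one_iff.1 h1 with h | h
        · have := Nat.le_of_dvd (by omega) ((hdvd j).1 h); omega
        · exact h
      constructor
      · rintro ⟨c, rfl⟩
        rw [hjd, pow_mul, hneg]
        exact neg_one_pow_eq_or (ZMod r) c
      · intro h
        have h1 : (Q : ZMod r) ^ (2 * k) = 1 := by
          rw [mul_comm, pow_mul]; rcases h with h | h <;> rw [h] <;> ring
        obtain ⟨c, hc⟩ := (hdvd _).1 h1
        exact ⟨c, by rw [hjd]; rw [hj] at hc; linarith⟩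
    · rw [if_pos ho] at hd
      subst hd
      constructor
      · exact fun h => Or.inl ((hdvd k).2 h)
      · intro h
        have h1 : (Q : ZMod r) ^ (2 * k) = 1 := by
          rw [mul_comm, pow_mul]; rcases h with h | h <;> rw [h] <;> ring
        exact (Nat.coprime_two_right.2 ho).dvd_of_dvd_mul_left ((hdvd _).1 h1)
  have hfix : ∀ k : ℕ, (x + x⁻¹) ^ Q ^ k = x + x⁻¹ ↔ d ∣ k := by
    intro k
    rw [hfrob, hpm, add_inv_eq_iff (pow_ne_zero _ hx0) hx0]
    refine or_congr ?_ ?_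
    · nth_rewrite 2 [← pow_one x]
      rw [(orderOf_pos_iff.1 (hox ▸ hr.pos)).pow_eq_pow_iff_modEq, hox,
        ← ZMod.natCast_eq_natCast_iff]
      push_cast; rfl
    · rw [← mul_eq_one_iff_eq_inv₀ hx0, ← pow_succ, ← orderOf_dvd_iff_pow_eq_one, hox,
        ← ZMod.natCast_eq_zero_iff]
      push_cast
      exact add_eq_zero_iff_eq_neg
  have key : ∀ k : ℕ, (minpoly F (x + x⁻¹)).natDegree ∣ k ↔ d ∣ k := fun k => by
    rw [← hfix k, (minpoly.irreducible hint).natDegree_dvd_iff_dvd_X_pow_card_pow_sub_X,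
      minpoly.dvd_iff, map_sub, map_pow, aeval_X, sub_eq_zero]
  exact Nat.dvd_antisymm ((key d).2 dvd_rfl) ((key _).1 dvd_rfl)

end Cfsg.Agent.Lib.Elem70.ClassCount
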