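import Cfsg.Agent.S2385
import Cfsg.Agent.Lib.Elem70.ClassCount.RealCyc

/-!
# Semisimple classes of the symplectic group and monic polynomials of half the degree

Owner: helper70.
-/

set_option autoImplicit false

namespace Cfsg.Agent.Lib.Elem70.ClassCount

open Polynomial Matrix Cfsg.Agent.Lib.GLFlags Cfsg.Agent.S2385

/-- Monic polynomials of degree `n` parametrise the semisimple classes of `Sp_{2n}`. -/
theorem exists_sp_reps {F : Type*} [Field F] [Fintype F] (p : ℕ) [Fact p.Prime] [CharP F p] (n : ℕ) :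
    ∃ g : {h : F[X] // h.Monic ∧ h.natDegree = n} → ↥(Matrix.symplecticGroup (Fin n) F),
      (∀ h, (orderOf (g h)).Coprime p) ∧
      (∀ h, ∀ x : AlgebraicClosure F, x ≠ 0 →
        Polynomial.aeval x (g h : Matrix (Fin n ⊕ Fin n) (Fin n ⊕ Fin n) F).charpoly =
          x ^ n * Polynomial.aeval (x + x⁻¹) h.1) ∧
      (∀ h h', IsConj (g h) (g h') → h = h') ∧
      (∀ s : ↥(Matrix.symplecticGroup (Fin n) F), (orderOf s).Coprime p → ∃ h, IsConj (g h) s) := by
  classical
  have hex : ∀ h : {h : F[X] // h.Monic ∧ h.natDegree = n}, ∃ g : ↥(Matrix.symplecticGroup (Fin n) F),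
      (orderOf g).Coprime p ∧ ∀ (x : AlgebraicClosure F), x ≠ 0 →
        Polynomial.aeval x (g : Matrix (Fin n ⊕ Fin n) (Fin n ⊕ Fin n) F).charpoly =
          x ^ n * Polynomial.aeval (x + x⁻¹) h.1 := by
    rintro ⟨h, hm, hd⟩
    obtain ⟨P, M, hP, hPu, hPM, hM⟩ := CyclicForm.exists_symmetric_pair hm hd
    obtain ⟨P', rfl⟩ := hPu
    have hQP : ((P'⁻¹ : GL (Fin n) F) : Matrix (Fin n) (Fin n) F) * P' = 1 := Units.inv_mul P'
    have hQ : ((P'⁻¹ : GL (Fin n) F) : Matrix (Fin n) (Fin n) F)ᵀ = P'⁻¹ := by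
      rw [Matrix.coe_units_inv, Matrix.transpose_nonsing_inv, hP]
    have hmem : Matrix.fromBlocks 0 (-(P' : Matrix (Fin n) (Fin n) F))
        ((P'⁻¹ : GL (Fin n) F) : Matrix (Fin n) (Fin n) F) M ∈ Matrix.symplecticGroup (Fin n) F := by
      rw [SymplecticGroup.fromBlocks_mem_iff]
      refine ⟨by simp, ?_, ?_⟩
      · rw [Matrix.transpose_neg, hP, Matrix.neg_mul, Matrix.mul_neg, hPM]
      · rw [hQ, Matrix.transpose_zero, Matrix.zero_mul, Matrix.mul_neg, sub_neg_eq_add, zero_add, hQP]
    let u : ↥(Matrix.symplecticGroup (Fin n) F) := ⟨_, hmem⟩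
    let ι : ↥(Matrix.symplecticGroup (Fin n) F) →* GL (Fin n ⊕ Fin n) F :=
      (Matrix.symplecticGroup (Fin n) F).subtype.toHomUnits
    have hι : Function.Injective ι := fun a b h => Subtype.ext (congrArg Units.val h)
    obtain ⟨m, hm', hmc⟩ := SemisimpleClasses.exists_pow_charpoly (p := p) (ι u)
    refine ⟨u ^ m, ?_, fun x hx => ?_⟩
    · rwa [← orderOf_injective ι hι, map_pow]
    · show Polynomial.aeval x (ι (u ^ m)).val.charpoly = _
      rw [map_pow, hmc]
      show Polynomial.aeval x (Matrix.fromBlocks 0 (-(P' : Matrix (Fin n) (Fin n) F)) _ M).charpoly = _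
      rw [Polynomial.aeval_def, ← Polynomial.eval_map, ← Matrix.charpoly_map, Matrix.fromBlocks_map,
        Matrix.map_zero _ (map_zero _), Matrix.map_neg _ (map_neg _)]
      rw [eval_block _ _ _ (by rw [← Matrix.map_mul, hQP, Matrix.map_one _ (map_zero _) (map_one _)]) hx,
        Matrix.charpoly_map, hM, Polynomial.eval_map, Polynomial.aeval_def]
  choose g hg hgeval using hex
  have hinj : ∀ h h', IsConj (g h) (g h') → h = h' := by
    intro h h' e'
    have hcp : (g h : Matrix (Fin n ⊕ Fin n) (Fin n ⊕ Fin n) F).charpoly =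
        (g h' : Matrix (Fin n ⊕ Fin n) (Fin n ⊕ Fin n) F).charpoly := by
      obtain ⟨c, hc⟩ := isConj_iff.1 e'
      rw [← hc, Submonoid.coe_mul, Submonoid.coe_mul, SymplecticGroup.coe_inv']
      obtain ⟨v, hv⟩ : ∃ v : GL (Fin n ⊕ Fin n) F, v.val = (c : Matrix (Fin n ⊕ Fin n) (Fin n ⊕ Fin n) F) :=
        ⟨((Matrix.symplecticGroup (Fin n) F).subtype.toHomUnits c), rfl⟩
      rw [← hv, Matrix.charpoly_units_conj]
    refine Subtype.ext (Polynomial.map_injective _ (algebraMap F (AlgebraicClosure F)).injective ?_)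
    refine Polynomial.funext fun a => ?_
    obtain ⟨x, hx⟩ := IsAlgClosed.exists_root (Polynomial.X ^ 2 - Polynomial.C a * Polynomial.X + 1) (by
      intro hd
      have := Polynomial.coeff_eq_zero_of_degree_lt (n := 2)
        (p := Polynomial.X ^ 2 - Polynomial.C a * Polynomial.X + 1) (by rw [hd]; norm_num)
      simp [Polynomial.coeff_one, Polynomial.coeff_X] at this)
    have hx' : x ^ 2 - a * x + 1 = 0 := by simpa using hx
    have hx0 : x ≠ 0 := fun h0 => by rw [h0] at hx'; simp at hx'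
    have ha : x + x⁻¹ = a := by
      field_simp
      linear_combination hx'
    have h1 := hgeval h x hx0
    rw [hcp, hgeval h' x hx0, ha] at h1
    rw [Polynomial.eval_map, Polynomial.eval_map, ← Polynomial.aeval_def, ← Polynomial.aeval_def]
    exact (mul_left_cancel₀ (pow_ne_zero _ hx0) h1).symm
  refine ⟨g, hg, hgeval, hinj, fun s hs => ?_⟩
  let Ψ : {h : F[X] // h.Monic ∧ h.natDegree = n} →
      {c : ConjClasses ↥(Matrix.symplecticGroup (Fin n) F) //
        ∃ g : ↥(Matrix.symplecticGroup (Fin n) F), ConjClasses.mk g = c ∧ (orderOf g).Coprime p} :=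
    fun h => ⟨ConjClasses.mk (g h), g h, rfl, hg h⟩
  have hΨ : Function.Injective Ψ := fun h h' e =>
    hinj h h' (ConjClasses.mk_eq_mk_iff_isConj.1 (congrArg Subtype.val e))
  haveI : Finite (ConjClasses ↥(Matrix.symplecticGroup (Fin n) F)) := inferInstance
  have hcard : Nat.card {h : F[X] // h.Monic ∧ h.natDegree = n} = Fintype.card F ^ n := by
    rw [Nat.card_congr ((monicEquivDegreeLT n).trans (degreeLTEquiv F n).toEquiv), Nat.card_fun,
      Nat.card_fin, Nat.card_eq_fintype_card]
  have hbij := hΨ.bijective_of_nat_card_le (by rw [hcard, Cfsg.Agent.S2385.result rfl p n])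
  obtain ⟨h, hh⟩ := hbij.2 ⟨ConjClasses.mk s, s, rfl, hs⟩
  exact ⟨h, ConjClasses.mk_eq_mk_iff_isConj.1 (congrArg Subtype.val hh)⟩

/-- An element with coprime order is `r`-torsion iff the roots of its parameter are `x + x⁻¹`,
`x` an `r`-th root of unity. -/
theorem pow_eq_one_iff {F : Type*} [Field F] [Fintype F] {p r : ℕ} [Fact p.Prime] [CharP F p] (hr : 0 < r)
    {n : ℕ} (g : ↥(Matrix.symplecticGroup (Fin n) F)) (hg : (orderOf g).Coprime p) (h : F[X])
    (he : ∀ x : AlgebraicClosure F, x ≠ 0 →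
        Polynomial.aeval x (g : Matrix (Fin n ⊕ Fin n) (Fin n ⊕ Fin n) F).charpoly =
          x ^ n * Polynomial.aeval (x + x⁻¹) h) :
    g ^ r = 1 ↔ ∀ a : AlgebraicClosure F, aeval a h = 0 →
      a ∈ realRoots F r ∨ a = algebraMap F (AlgebraicClosure F) 2 := by
  classical
  let K := AlgebraicClosure F
  let φ : ↥(Matrix.symplecticGroup (Fin n) F) →* Matrix (Fin n ⊕ Fin n) (Fin n ⊕ Fin n) K :=
    (algebraMap F K).mapMatrix.toMonoidHom.comp (Matrix.symplecticGroup (Fin n) F).subtype
  have hφ : Function.Injective φ := fun a b hab =>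
    Subtype.ext (Matrix.map_injective (algebraMap F K).injective hab)
  have hcp : ∀ x : K, (φ g).charpoly.eval x =
      Polynomial.aeval x (g : Matrix (Fin n ⊕ Fin n) (Fin n ⊕ Fin n) F).charpoly := fun x => by
    rw [Polynomial.aeval_def, ← Polynomial.eval_map, ← Matrix.charpoly_map]; rfl
  have hdet : (φ g).det = 1 := by
    show ((g : Matrix (Fin n ⊕ Fin n) (Fin n ⊕ Fin n) F).map (algebraMap F K)).det = 1
    rw [← RingHom.mapMatrix_apply, ← RingHom.map_det, SymplecticGroup.det_eq_one g.2, map_one]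
  have h2 : algebraMap F K 2 = (1 : K) + (1 : K)⁻¹ := by rw [map_ofNat, inv_one]; norm_num
  constructor
  · intro hgr a ha
    obtain ⟨x, hx⟩ := IsAlgClosed.exists_root (Polynomial.X ^ 2 - Polynomial.C a * Polynomial.X + 1) (by
      intro hd
      have := Polynomial.coeff_eq_zero_of_degree_lt (n := 2)
        (p := Polynomial.X ^ 2 - Polynomial.C a * Polynomial.X + 1) (by rw [hd]; norm_num)
      simp [Polynomial.coeff_one, Polynomial.coeff_X] at this)
    have hx' : x ^ 2 - a * x + 1 = 0 := by simpa using hx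
    have hx0 : x ≠ 0 := fun h0 => by rw [h0] at hx'; simp at hx'
    have hax : x + x⁻¹ = a := by
      field_simp
      linear_combination hx'
    have h0 : (φ g).charpoly.eval x = 0 := by rw [hcp, he x hx0, hax, ha, mul_zero]
    rw [Matrix.eval_charpoly, ← Matrix.exists_mulVec_eq_zero_iff] at h0
    obtain ⟨v, hv, hvx⟩ := h0
    rw [Matrix.sub_mulVec, sub_eq_zero] at hvx
    have hgv : φ g *ᵥ v = x • v := by
      rw [← hvx]; ext j; simp [Matrix.mulVec_diagonal]
    have hpow : ∀ k : ℕ, φ g ^ k *ᵥ v = x ^ k • v := by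
      intro k
      induction k with
      | zero => simp
      | succ k ih => rw [pow_succ', ← Matrix.mulVec_mulVec, ih, Matrix.mulVec_smul, hgv, smul_smul, pow_succ]
    have hxr : x ^ r = 1 := by
      have h1 := hpow r
      rw [← map_pow, hgr, map_one, Matrix.one_mulVec] at h1
      refine (smul_left_injective K hv).eq_iff.1 ?_
      rw [← h1, one_smul]
    rcases eq_or_ne x 1 with rfl | hx1
    · right; rw [← hax, h2]
    · exact Or.inl ((mem_realRoots hr).2 ⟨x, hxr, hx1, hax⟩)
  · intro hroot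
    have hrt : ∀ x ∈ (φ g).charpoly.roots, x ^ r = 1 := by
      intro x hx
      have hx0 : x ≠ 0 := by
        rintro rfl
        have := (Polynomial.mem_roots'.1 hx).2
        rw [Polynomial.IsRoot, Matrix.eval_charpoly, map_zero, zero_sub, Matrix.det_neg, hdet, mul_one] at this
        exact pow_ne_zero _ (neg_ne_zero.2 one_ne_zero) this
      have h0 := (Polynomial.mem_roots'.1 hx).2
      rw [Polynomial.IsRoot, hcp, he x hx0] at h0
      rcases hroot _ ((mul_eq_zero.1 h0).resolve_left (pow_ne_zero _ hx0)) with hm | hm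
      · obtain ⟨y, hyr, -, hy⟩ := (mem_realRoots hr).1 hm
        have hy0 : y ≠ 0 := fun h => by rw [h, zero_pow hr.ne'] at hyr; exact zero_ne_one hyr
        rcases (add_inv_eq_iff hy0 hx0).1 hy with rfl | rfl
        · exact hyr
        · rw [inv_pow, inv_eq_one] at hyr; exact hyr
      · rw [h2] at hm
        rcases (add_inv_eq_iff hx0 one_ne_zero).1 hm with rfl | rfl <;> simp
    set N := Multiset.card (φ g).charpoly.roots with hN
    have hdvd : (φ g).charpoly ∣ (X ^ r - 1 : K[X]) ^ N := by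
      rw [(IsAlgClosed.splits (φ g).charpoly).eq_prod_roots_of_monic (Matrix.charpoly_monic _), hN,
        ← Multiset.prod_replicate, ← Multiset.map_const']
      refine Multiset.prod_dvd_prod_of_dvd _ _ fun x hx => ?_
      rw [Polynomial.dvd_iff_isRoot]
      simp [hrt x hx]
    obtain ⟨w, hw⟩ := hdvd
    have hnil : (φ g ^ r - 1) ^ N = 0 := by
      have := congrArg (Polynomial.aeval (φ g)) hw
      simpa [Matrix.aeval_self_charpoly] using this
    have hp := (Fact.out : p.Prime)
    haveI : CharP K p := charP_of_injective_algebraMap (algebraMap F K).injective p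
    rcases Nat.eq_zero_or_pos n with rfl | hn
    · exact Subtype.ext (Subsingleton.elim _ _)
    haveI : Nonempty (Fin n) := ⟨⟨0, hn⟩⟩
    haveI : CharP (Matrix (Fin n ⊕ Fin n) (Fin n ⊕ Fin n) K) p :=
      charP_of_injective_algebraMap (algebraMap K _).injective p
    have h1 : φ ((g ^ r) ^ p ^ N) = φ 1 := by
      rw [map_pow, map_pow, map_one, ← sub_eq_zero]
      have h3 : (φ g ^ r - 1) ^ p ^ N = 0 := by
        obtain ⟨j, hj⟩ := Nat.exists_eq_add_of_le (Nat.lt_pow_self hp.one_lt (n := N)).le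
        rw [hj, pow_add, hnil, zero_mul]
      rwa [sub_pow_char_pow_of_commute _ _ (Commute.one_right _), one_pow] at h3
    have h4 := hφ h1
    rw [← pow_mul, ← orderOf_dvd_iff_pow_eq_one] at h4
    exact orderOf_dvd_iff_pow_eq_one.1 ((hg.pow_right N).dvd_of_dvd_mul_right h4)

end Cfsg.Agent.Lib.Elem70.ClassCount
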