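import Mathlib

/-!
# Multisets invariant under a map with orbits of constant length

Owner: helper70.
-/

set_option autoImplicit false

namespace Cfsg.Agent.Lib.Elem70.ClassCount

theorem iterate_mem_of_maps {α : Type*} {τ : α → α} {R : Finset α} (hR : ∀ a ∈ R, τ a ∈ R) {a : α} (ha : a ∈ R)
    (k : ℕ) : τ^[k] a ∈ R := by
  induction k with
  | zero => exact ha
  | succ k ih => rw [Function.iterate_succ_apply']; exact hR _ ih

/-- Invariant multisets on `R ∪ {c}` of size `n`, all orbits in `R` having `o` elements. -/
theorem card_invariant_multisets {α : Type*} [DecidableEq α] {τ : α → α} (hτ : Function.Injective τ)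
    (R : Finset α) (c : α) (hc : c ∉ R) (hτc : τ c = c) (hR : ∀ a ∈ R, τ a ∈ R) {o : ℕ} (ho : 0 < o)
    (horb : ∀ a ∈ R, ∀ k, τ^[k] a = a ↔ o ∣ k) (n : ℕ) :
    o ∣ R.card ∧
    Nat.card {M : Multiset α // Multiset.card M = n ∧ (∀ x ∈ M, x ∈ R ∨ x = c) ∧ M.map τ = M} =
      Nat.choose (n / o + R.card / o) (R.card / o) := by
  classical
  let orb : α → Finset α := fun a => (Finset.range o).image fun k => τ^[k] a
  have hmemo : ∀ a ∈ R, ∀ k, τ^[k] a ∈ orb a := fun a ha k => by
    refine Finset.mem_image.2 ⟨k % o, Finset.mem_range.2 (Nat.mod_lt _ ho), ?_⟩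
    have hcyc : ∀ j, τ^[o * j] a = a := fun j => (horb a ha _).2 (Dvd.intro j rfl)
    conv_rhs => rw [← Nat.mod_add_div k o, Function.iterate_add_apply, hcyc]
  have hcard : ∀ a ∈ R, (orb a).card = o := fun a ha => by
    rw [Finset.card_image_of_injOn, Finset.card_range]
    have key : ∀ i j, i ≤ j → j < o → τ^[i] a = τ^[j] a → i = j := fun i j hij hj e => by
      rw [show j = i + (j - i) by omega, Function.iterate_add_apply] at e
      have h1 := (horb a ha _).1 ((hτ.iterate i e).symm)
      rcases Nat.eq_zero_or_pos (j - i) with h | h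
      · omega
      · have := Nat.le_of_dvd h h1; omega
    intro i hi j hj e
    rcases le_total i j with h | h
    · exact key i j h (Finset.mem_range.1 hj) e
    · exact (key j i h (Finset.mem_range.1 hi) e.symm).symm
  have hsame : ∀ a ∈ R, ∀ b ∈ orb a, orb b = orb a := fun a ha b hb => by
    obtain ⟨k, -, rfl⟩ := Finset.mem_image.1 hb
    refine Finset.eq_of_subset_of_card_le (fun x hx => ?_) ?_
    · obtain ⟨j, -, rfl⟩ := Finset.mem_image.1 hx
      rw [← Function.iterate_add_apply]
      exact hmemo a ha _
    · rw [hcard a ha, hcard _ (iterate_mem_of_maps hR ha k)]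
  have hself : ∀ a ∈ R, a ∈ orb a := fun a ha => hmemo a ha 0
  set S := R.image orb with hS
  have hSmem : ∀ X ∈ S, ∀ x ∈ X, x ∈ R ∧ orb x = X := by
    intro X hX x hx
    obtain ⟨a, ha, rfl⟩ := Finset.mem_image.1 hX
    refine ⟨?_, hsame a ha x hx⟩
    obtain ⟨k, -, rfl⟩ := Finset.mem_image.1 hx
    exact iterate_mem_of_maps hR ha k
  have hRcard : R.card = S.card * o := by
    rw [hS, Finset.card_eq_sum_card_image orb R]
    refine Finset.sum_const_nat fun X hX => ?_
    have : R.filter (fun b => orb b = X) = X := by
      ext b
      rw [Finset.mem_filter]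
      exact ⟨fun h => h.2 ▸ hself b h.1, fun h => hSmem X hX b h⟩
    rw [this]
    obtain ⟨a, ha, rfl⟩ := Finset.mem_image.1 hX
    exact hcard a ha
  refine ⟨Dvd.intro_left _ hRcard.symm, ?_⟩
  rw [hRcard, Nat.mul_div_cancel _ ho]
  set k := n / o with hk
  let tg : Option {X // X ∈ S} → Multiset α := fun x => x.elim (Multiset.replicate o c) fun X => X.1.val
  let F : Sym (Option {X // X ∈ S}) k → Multiset α := fun s =>
    Multiset.replicate (n - o * k) c + (s : Multiset (Option {X // X ∈ S})).bind tg
  have hXcard : ∀ X : {X // X ∈ S}, X.1.card = o := fun X => by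
    obtain ⟨a, ha, e⟩ := Finset.mem_image.1 X.2
    rw [← e]; exact hcard a ha
  have hFcard : ∀ s, Multiset.card (F s) = n := fun s => by
    have h1 : ∀ m : Multiset (Option {X // X ∈ S}), Multiset.card (m.bind tg) = o * Multiset.card m := fun m => by
      induction m using Multiset.induction with
      | empty => simp
      | cons x m ih =>
        rw [Multiset.cons_bind, Multiset.card_add, ih, Multiset.card_cons, mul_add, mul_one, add_comm]
        congr 1
        rcases x with _ | X
        · simp [tg]
        · exact hXcard X
    rw [Multiset.card_add, Multiset.card_replicate, h1, Sym.card_coe]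
    have : o * k ≤ n := Nat.mul_div_le n o
    omega
  have hcount : ∀ (s : Sym (Option {X // X ∈ S}) k) (a : α) (ha : a ∈ R),
      (F s).count a = (s : Multiset (Option {X // X ∈ S})).count
        (some ⟨orb a, Finset.mem_image_of_mem _ ha⟩) := by
    intro s a ha
    have hac : a ≠ c := fun e => hc (e ▸ ha)
    rw [Multiset.count_add, Multiset.count_replicate, if_neg (Ne.symm hac), zero_add, Multiset.count_bind]
    induction (s : Multiset (Option {X // X ∈ S})) using Multiset.induction with
    | empty => simp
    | cons x m ih =>
      rw [Multiset.map_cons, Multiset.sum_cons, ih, Multiset.count_cons, add_comm]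
      congr 1
      rcases x with _ | X
      · simp [tg, Multiset.count_replicate, Ne.symm hac]
      · by_cases hX : a ∈ X.1
        · rw [if_pos (congrArg some (Subtype.ext (hSmem X.1 X.2 a hX).2 : (⟨orb a, _⟩ : {X // X ∈ S}) = X)), show tg (some X) = X.1.val from rfl,
            Multiset.count_eq_one_of_mem X.1.nodup hX]
        · rw [if_neg (fun e => hX (by
            rw [← Option.some.inj e]
            exact hself a ha)), show tg (some X) = X.1.val from rfl, Multiset.count_eq_zero_of_notMem hX]
  have hsupp : ∀ s, ∀ x ∈ F s, x ∈ R ∨ x = c := by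
    intro s x hx
    rcases Multiset.mem_add.1 hx with h | h
    · exact Or.inr (Multiset.eq_of_mem_replicate h)
    · obtain ⟨X, -, h⟩ := Multiset.mem_bind.1 h
      rcases X with _ | X
      · exact Or.inr (Multiset.eq_of_mem_replicate h)
      · exact Or.inl (hSmem X.1 X.2 x h).1
  have hXinv : ∀ X : {X // X ∈ S}, X.1.val.map τ = X.1.val := fun X => by
    have h1 : X.1.image τ = X.1 := by
      refine Finset.eq_of_subset_of_card_le (fun y hy => ?_) (by rw [Finset.card_image_of_injective _ hτ])
      obtain ⟨x, hx, rfl⟩ := Finset.mem_image.1 hy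
      obtain ⟨hxR, hxo⟩ := hSmem X.1 X.2 x hx
      rw [← hxo, ← Function.iterate_one τ]
      exact hmemo x hxR 1
    conv_rhs => rw [← h1]
    rw [Finset.image_val_of_injOn hτ.injOn]
  have hinv : ∀ s, (F s).map τ = F s := fun s => by
    simp only [F, Multiset.map_add, Multiset.map_replicate, hτc, Multiset.map_bind]
    congr 1
    refine Multiset.bind_congr fun X _ => ?_
    rcases X with _ | X
    · simp [tg, hτc]
    · exact hXinv X
  rw [show Nat.choose (k + S.card) S.card = Nat.card (Sym (Option {X // X ∈ S}) k) by
    rw [Nat.card_eq_fintype_card, Sym.card_sym_eq_choose, Fintype.card_option, Fintype.card_coe,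
      show S.card + 1 + k - 1 = k + S.card by generalize k = k'; omega]
    exact Nat.choose_symm_add.symm]
  refine (Nat.card_eq_of_bijective (fun s => ⟨F s, hFcard s, hsupp s, hinv s⟩) ⟨?_, ?_⟩).symm
  · intro s t e
    have e' : F s = F t := congrArg Subtype.val e
    refine Sym.coe_injective ?_
    have hsome : ∀ X : {X // X ∈ S}, (s : Multiset _).count (some X) = (t : Multiset _).count (some X) := by
      rintro ⟨X, hX⟩
      obtain ⟨a, ha, rfl⟩ := Finset.mem_image.1 hX
      rw [← hcount s a ha, ← hcount t a ha, e']
    ext X
    rcases X with _ | X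
    · have h1 : ∀ u : Sym (Option {X // X ∈ S}) k, (u : Multiset (Option {X // X ∈ S})).count none +
          ∑ X : {X // X ∈ S}, (u : Multiset (Option {X // X ∈ S})).count (some X) = k := fun u => by
        rw [← Fintype.sum_option (fun x => (u : Multiset (Option {X // X ∈ S})).count x),
          Multiset.sum_count_eq_card (fun x _ => Finset.mem_univ x), Sym.card_coe]
      have h2 := h1 s
      rw [Finset.sum_congr rfl fun X _ => hsome X] at h2
      have h3 := h1 t
      omega
    · exact hsome X
  · rintro ⟨M, hMn, hMs, hMτ⟩
    let w : {X // X ∈ S} → ℕ := fun X => (X.1.sup fun x => M.count x)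
    have hconst : ∀ a ∈ R, ∀ b ∈ orb a, M.count b = M.count a := by
      intro a ha b hb
      obtain ⟨j, -, rfl⟩ := Finset.mem_image.1 hb
      clear hb
      induction j with
      | zero => rfl
      | succ j ih =>
        rw [Function.iterate_succ_apply', ← ih]
        conv_lhs => rw [← hMτ]
        exact Multiset.count_map_eq_count' _ _ hτ _
    have hw : ∀ a (ha : a ∈ R), w ⟨orb a, Finset.mem_image_of_mem _ ha⟩ = M.count a := fun a ha => by
      refine le_antisymm (Finset.sup_le fun x hx => (hconst a ha x hx).le) ?_
      exact Finset.le_sup (f := fun x => M.count x) (hself a ha)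
    have hsum : o * ∑ X, w X + M.count c = n := by
      rw [← hMn, ← Multiset.sum_count_eq_card (s := insert c R) (fun x hx => by
        rcases hMs x hx with h | h
        · exact Finset.mem_insert_of_mem h
        · exact h ▸ Finset.mem_insert_self c R), Finset.sum_insert hc, add_comm]
      congr 1
      rw [← Finset.sum_fiberwise_of_maps_to (t := S) (g := orb) (fun a ha => Finset.mem_image_of_mem _ ha),
        Finset.mul_sum, ← Finset.sum_coe_sort S]
      refine Finset.sum_congr rfl fun X _ => ?_
      obtain ⟨X, hX⟩ := X
      obtain ⟨a, ha, rfl⟩ := Finset.mem_image.1 hX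
      have hf : R.filter (fun b => orb b = orb a) = orb a := by
        ext b
        rw [Finset.mem_filter]
        exact ⟨fun h => h.2 ▸ hself b h.1, fun h => hSmem _ hX b h⟩
      rw [hf, hw a ha, Finset.sum_const_nat (fun b hb => hconst a ha b hb), hcard a ha]
    have hle : ∑ X, w X ≤ k := (Nat.le_div_iff_mul_le ho).2 (by rw [mul_comm]; omega)
    let m : Multiset (Option {X // X ∈ S}) := Multiset.replicate (k - ∑ X, w X) none +
      ∑ X, Multiset.replicate (w X) (some X)
    have hm : Multiset.card m = k := by
      simp only [m, Multiset.card_add, Multiset.card_replicate, Multiset.card_sum]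
      omega
    let sm : Sym (Option {X // X ∈ S}) k := ⟨m, hm⟩
    refine ⟨sm, Subtype.ext (Multiset.ext.2 fun x => ?_)⟩
    show (F sm).count x = M.count x
    by_cases hxR : x ∈ R
    · refine (hcount _ x hxR).trans ?_
      rw [← hw x hxR]
      simp [sm, m, Multiset.count_sum', Multiset.count_replicate]
    · by_cases hxc : x = c
      · subst hxc
        have hcnt : (F sm).count x + ∑ a ∈ R, (F sm).count a = n := by
          rw [← Finset.sum_insert (f := fun a => (F sm).count a) hc, Multiset.sum_count_eq_card (fun y hy => by
            rcases hsupp _ y hy with h | h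
            · exact Finset.mem_insert_of_mem h
            · exact h ▸ Finset.mem_insert_self _ R), hFcard]
        have hMc : M.count x + ∑ a ∈ R, M.count a = n := by
          rw [← Finset.sum_insert (f := fun a => M.count a) hc, Multiset.sum_count_eq_card (fun y hy => by
            rcases hMs y hy with h | h
            · exact Finset.mem_insert_of_mem h
            · exact h ▸ Finset.mem_insert_self _ R), hMn]
        have : ∑ a ∈ R, (F sm).count a = ∑ a ∈ R, M.count a :=
          Finset.sum_congr rfl fun a ha => by
            rw [hcount _ a ha, ← hw a ha]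
            simp [sm, m, Multiset.count_sum', Multiset.count_replicate]
        omega
      · rw [Multiset.count_eq_zero_of_notMem, Multiset.count_eq_zero_of_notMem]
        · exact fun h => (hMs x h).elim hxR hxc
        · exact fun h => (hsupp _ x h).elim hxR hxc

end Cfsg.Agent.Lib.Elem70.ClassCount
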