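import Cfsg.Agent.Lib.Forms.Bridge
import Cfsg.Agent.Lib.Orth52.Classify
import Cfsg.Agent.Lib.OrthField.EvenConj
import Cfsg.Agent.Lib.Elusive19.OrthEven

/-!
# Signs of even-dimensional quadratic spaces and embeddings of orthogonal groups

Owner: helper70.
-/

set_option autoImplicit false

namespace Cfsg.Agent.Lib.Elem70.ClassCount

open Module QuadraticMap Cfsg.Agent.Lib.Forms

variable {F : Type*} [Field F] [Finite F]

/-- `Q` has dimension `2 * m` and type `ε`, read off from the number of solutions of `Q v = c`. -/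
structure HasSign {V : Type*} [AddCommGroup V] [Module F V] (Q : QuadraticForm F V) (m : ℕ) (ε : ℤ) : Prop where
  finrank_eq : finrank F V = 2 * m
  sign : ε = 1 ∨ ε = -1
  level : ∀ c : F, c ≠ 0 → (levelCard Q c : ℤ) * Nat.card F = (Nat.card F : ℤ) ^ (2 * m) - ε * (Nat.card F : ℤ) ^ m

theorem HasSign.congr {V V' : Type*} [AddCommGroup V] [Module F V] [AddCommGroup V'] [Module F V']
    {Q : QuadraticForm F V} {Q' : QuadraticForm F V'} {m : ℕ} {ε : ℤ} (h : HasSign Q m ε)
    (e : Q.Equivalent Q') : HasSign Q' m ε where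
  finrank_eq := e.elim fun i => i.toLinearEquiv.finrank_eq.symm.trans h.finrank_eq
  sign := h.sign
  level c hc := by rw [levelCard, ← card_level_congr e]; exact h.level c hc

theorem hasSign_plus (m : ℕ) : HasSign (qPlus (F := F) m) m 1 where
  finrank_eq := by simp; omega
  sign := Or.inl rfl
  level c hc := by
    rw [levelCard_qPlus m hc]
    rcases m with _ | m
    · simp
    have h1 : 1 ≤ Nat.card F ^ (m + 1) := Nat.one_le_pow _ _ Nat.card_pos
    push_cast [Nat.cast_sub h1]
    ring

theorem hasSign_minus (k : ℕ) {a b : F}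
    (hab : ∀ z₁ z₂ : F, z₁ ^ 2 + a * z₁ * z₂ + b * z₂ ^ 2 = 0 → z₁ = 0 ∧ z₂ = 0) :
    HasSign (qMinus k a b) (k + 1) (-1) where
  finrank_eq := by simp; omega
  sign := Or.inr rfl
  level c hc := by
    rw [levelCard_qMinus k hab hc]
    push_cast
    ring

theorem HasSign.eq {V : Type*} [AddCommGroup V] [Module F V] {Q : QuadraticForm F V} {m m' : ℕ} {ε δ : ℤ}
    (h : HasSign Q m ε) (h' : HasSign Q m' δ) : ε = δ := by
  obtain rfl : m = m' := by
    have := h.finrank_eq.symm.trans h'.finrank_eq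
    omega
  have h1 := (h.level 1 one_ne_zero).symm.trans (h'.level 1 one_ne_zero)
  have h2 : (ε - δ) * (Nat.card F : ℤ) ^ m = 0 := by linear_combination -h1
  exact sub_eq_zero.1 ((mul_eq_zero.1 h2).resolve_right (pow_ne_zero _ (Nat.cast_ne_zero.2 Nat.card_pos.ne')))

theorem exists_hasSign {V : Type*} [AddCommGroup V] [Module F V] [FiniteDimensional F V]
    {Q : QuadraticForm F V} (hQ : Nondeg Q) {m : ℕ} (hm : finrank F V = 2 * m) :
    (HasSign Q m 1 ∧ Q.Equivalent (qPlus m)) ∨ (HasSign Q m (-1) ∧ ∃ (k : ℕ) (a b : F), k + 1 = m ∧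
      (∀ z₁ z₂ : F, z₁ ^ 2 + a * z₁ * z₂ + b * z₂ ^ 2 = 0 → z₁ = 0 ∧ z₂ = 0) ∧
      Q.Equivalent (qMinus k a b)) := by
  rcases classify Q hQ with ⟨j, hj, e⟩ | ⟨j, c, -, -, hj, -⟩ | ⟨j, a, b, hab, hj, e⟩
  · obtain rfl : j = m := by omega
    exact Or.inl ⟨(hasSign_plus j).congr e.symm, e⟩
  · omega
  · have hjm : j + 1 = m := by omega
    have e' := e.trans (qMinus_equiv j a b).symm
    exact Or.inr ⟨hjm ▸ (hasSign_minus j hab).congr e'.symm, j, a, b, hjm, hab, e'⟩

theorem equivalent_of_hasSign {V V' : Type*} [AddCommGroup V] [Module F V] [FiniteDimensional F V]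
    [AddCommGroup V'] [Module F V'] [FiniteDimensional F V']
    {Q : QuadraticForm F V} {Q' : QuadraticForm F V'} (hQ : Nondeg Q) (hQ' : Nondeg Q') {m : ℕ} {ε : ℤ}
    (h : HasSign Q m ε) (h' : HasSign Q' m ε) : Q.Equivalent Q' := by
  rcases exists_hasSign hQ h.finrank_eq with ⟨s, e⟩ | ⟨s, k, a, b, hk, hab, e⟩ <;>
    rcases exists_hasSign hQ' h'.finrank_eq with ⟨s', e'⟩ | ⟨s', k', a', b', hk', hab', e'⟩
  · exact e.trans e'.symm
  · exact absurd ((s.eq h).trans (h'.eq s')) (by norm_num)
  · exact absurd ((s.eq h).trans (h'.eq s')) (by norm_num)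
  · obtain rfl : k' = k := by omega
    obtain ⟨f, hf⟩ := OrthField.exists_bin_equiv hab hab'
    refine e.trans (((qMinus_equiv k' a b).trans ?_).trans ((qMinus_equiv k' a' b').symm.trans e'.symm))
    exact (Equivalent.refl _).prod ⟨{ f with map_app' := hf }⟩

theorem HasSign.level_zero {W : Type*} [AddCommGroup W] [Module F W] [FiniteDimensional F W]
    {R : QuadraticForm F W} {k : ℕ} {η : ℤ} (hR : HasSign R k η) :
    (levelCard R 0 : ℤ) * Nat.card F =
      (Nat.card F : ℤ) ^ (2 * k) + ((Nat.card F : ℤ) - 1) * η * (Nat.card F : ℤ) ^ k := by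
  classical
  haveI := Fintype.ofFinite F
  haveI := Module.finite_of_finite F (M := W)
  have h1 : Nat.card W = ∑ d : F, levelCard R d := by
    rw [← Nat.card_congr (Equiv.sigmaFiberEquiv R), Nat.card_sigma]
    rfl
  rw [Module.natCard_eq_pow_finrank (K := F) (V := W), hR.finrank_eq,
    ← Finset.add_sum_erase _ _ (Finset.mem_univ (0 : F))] at h1
  have h2 := congrArg (fun x : ℕ => (x : ℤ) * Nat.card F) h1
  push_cast at h2
  rw [add_mul, Finset.sum_mul, Finset.sum_congr rfl (fun d hd => hR.level d (Finset.ne_of_mem_erase hd)),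
    Finset.sum_const, Finset.card_erase_of_mem (Finset.mem_univ _), Finset.card_univ, nsmul_eq_mul,
    Nat.cast_sub Fintype.card_pos, Nat.cast_one, ← Nat.card_eq_fintype_card (α := F)] at h2
  linear_combination -h2

theorem HasSign.prod {V V' : Type*} [AddCommGroup V] [Module F V] [FiniteDimensional F V]
    [AddCommGroup V'] [Module F V'] [FiniteDimensional F V']
    {Q : QuadraticForm F V} {Q' : QuadraticForm F V'} {m n : ℕ} {ε δ : ℤ}
    (h : HasSign Q m ε) (h' : HasSign Q' n δ) : HasSign (Q.prod Q') (m + n) (ε * δ) where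
  finrank_eq := by rw [finrank_prod, h.finrank_eq, h'.finrank_eq]; ring
  sign := by rcases h.sign with rfl | rfl <;> rcases h'.sign with rfl | rfl <;> norm_num
  level c hc := by
    classical
    haveI := Fintype.ofFinite F
    haveI := Module.finite_of_finite F (M := V)
    haveI := Module.finite_of_finite F (M := V')
    set N : ℤ := (Nat.card F : ℤ) with hN
    have hN0 : N ≠ 0 := Nat.cast_ne_zero.2 Nat.card_pos.ne'
    have hconv : (levelCard (Q.prod Q') c : ℤ) = ∑ d : F, (levelCard Q d : ℤ) * (levelCard Q' (c - d) : ℤ) := by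
      let e : {p : V × V' // Q.prod Q' p = c} ≃ Σ d : F, {v // Q v = d} × {w // Q' w = c - d} :=
        { toFun := fun p => ⟨Q p.1.1, ⟨p.1.1, rfl⟩, ⟨p.1.2, by
            have h1 : Q p.1.1 + Q' p.1.2 = c := p.2
            linear_combination h1⟩⟩
          invFun := fun s => ⟨(s.2.1.1, s.2.2.1), by
            show Q s.2.1.1 + Q' s.2.2.1 = c
            rw [s.2.1.2, s.2.2.2]; ring⟩
          left_inv := fun p => rfl
          right_inv := by rintro ⟨d, ⟨v, hv⟩, ⟨w, hw⟩⟩; subst hv; rfl }
      rw [levelCard, Nat.card_congr e, Nat.card_sigma]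
      push_cast
      refine Finset.sum_congr rfl fun d _ => ?_
      rw [Nat.card_prod, Nat.cast_mul]
      rfl
    have hA := h.level_zero
    have hB := h'.level_zero
    rw [← hN] at hA hB
    have hmem : c ∈ Finset.univ.erase (0 : F) := Finset.mem_erase.2 ⟨hc, Finset.mem_univ c⟩
    have hrest : ∀ d ∈ (Finset.univ.erase (0 : F)).erase c,
        (levelCard Q d : ℤ) * (levelCard Q' (c - d) : ℤ) * (N * N) =
          (N ^ (2 * m) - ε * N ^ m) * (N ^ (2 * n) - δ * N ^ n) := fun d hd => by
      obtain ⟨hdc, hd0⟩ := Finset.mem_erase.1 hd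
      rw [← h.level d (Finset.ne_of_mem_erase hd0), ← h'.level (c - d) (sub_ne_zero.2 (Ne.symm hdc))]
      ring
    have hcard : (((Finset.univ.erase (0 : F)).erase c).card : ℤ) = N - 2 := by
      rw [Finset.card_erase_of_mem hmem, Finset.card_erase_of_mem (Finset.mem_univ _), Finset.card_univ,
        ← Nat.card_eq_fintype_card, hN]
      have := Finite.one_lt_card (α := F)
      omega
    rw [← Finset.add_sum_erase _ _ (Finset.mem_univ (0 : F)), ← Finset.add_sum_erase _ _ hmem, sub_zero,
      sub_self] at hconv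
    refine mul_right_cancel₀ hN0 ?_
    rw [hconv]
    have h3 := Finset.sum_congr rfl hrest
    rw [← Finset.sum_mul, Finset.sum_const, nsmul_eq_mul, hcard] at h3
    have h4 := h.level c hc
    have h5 := h'.level c hc
    rw [← hN] at h4 h5
    linear_combination h3 + (levelCard Q' c : ℤ) * N * hA + (N ^ (2 * m) + (N - 1) * ε * N ^ m) * h5 +
      (levelCard Q' 0 : ℤ) * N * h4 + (N ^ (2 * m) - ε * N ^ m) * hB

theorem exists_model_sign {m : ℕ} (hm : 1 ≤ m) {ε : ℤ} (hε : ε = 1 ∨ ε = -1) :
    ∃ (ι : Type) (_ : Fintype ι) (C : QuadraticForm F (ι → F)), Nondeg C ∧ HasSign C m ε := by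
  rcases hε with rfl | rfl
  · exact ⟨_, inferInstance, qPlus m, qPlus_nondeg m, hasSign_plus m⟩
  · obtain ⟨a, b, hab⟩ := OrthField.exists_aniso F
    obtain ⟨k, rfl⟩ : ∃ k, m = k + 1 := ⟨m - 1, by omega⟩
    exact ⟨_, inferInstance, qMinus k a b, qMinus_nondeg k hab, hasSign_minus k hab⟩

omit [Finite F] in
theorem charpoly_orthCongr {V V' : Type*} [AddCommGroup V] [Module F V] [FiniteDimensional F V]
    [AddCommGroup V'] [Module F V'] [FiniteDimensional F V']
    {Q : QuadraticForm F V} {Q' : QuadraticForm F V'} (e : Q.IsometryEquiv Q') (g : orth Q) :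
    ((orthCongr e g).1 : V' →ₗ[F] V').charpoly = (g.1 : V →ₗ[F] V).charpoly := by
  rw [← LinearEquiv.charpoly_conj e.toLinearEquiv (g.1 : V →ₗ[F] V)]
  exact congrArg _ (LinearMap.ext fun v => rfl)

/-- Extending isometries by the identity on an orthogonal summand. -/
def orthExtend {W U : Type*} [AddCommGroup W] [Module F W] [AddCommGroup U] [Module F U]
    (B : QuadraticForm F W) (C : QuadraticForm F U) : orth B →* orth (B.prod C) where
  toFun g := ⟨g.1.prodCongr (LinearEquiv.refl F U), fun v => by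
    show B (g.1 v.1) + C v.2 = B v.1 + C v.2
    rw [g.2]⟩
  map_one' := Subtype.ext (LinearEquiv.ext fun v => rfl)
  map_mul' a b := Subtype.ext (LinearEquiv.ext fun v => rfl)

omit [Finite F] in
theorem orthExtend_charpoly {W U : Type*} [AddCommGroup W] [Module F W] [FiniteDimensional F W]
    [AddCommGroup U] [Module F U] [FiniteDimensional F U]
    (B : QuadraticForm F W) (C : QuadraticForm F U) (g : orth B) :
    ((orthExtend B C g).1 : W × U →ₗ[F] W × U).charpoly =
      (g.1 : W →ₗ[F] W).charpoly * (Polynomial.X - 1) ^ finrank F U := by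
  rw [show ((orthExtend B C g).1 : W × U →ₗ[F] W × U) = LinearMap.prodMap (g.1 : W →ₗ[F] W) 1 from
    LinearMap.ext fun v => rfl, LinearMap.charpoly_prodMap, LinearMap.charpoly_one]

omit [Finite F] in
theorem orthExtend_injective {W U : Type*} [AddCommGroup W] [Module F W] [AddCommGroup U] [Module F U]
    (B : QuadraticForm F W) (C : QuadraticForm F U) : Function.Injective (orthExtend B C) :=
  fun a b h => Subtype.ext (LinearEquiv.ext fun w =>
    congrArg Prod.fst (LinearEquiv.congr_fun (congrArg Subtype.val h) (w, 0)))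

/-- An orthogonal group embeds in every larger one, and in an equal one of the same type. -/
theorem exists_orth_hom {V W : Type*} [AddCommGroup V] [Module F V] [FiniteDimensional F V]
    [AddCommGroup W] [Module F W] [FiniteDimensional F W]
    {Q : QuadraticForm F V} (hQ : Nondeg Q) {B : QuadraticForm F W} (hB : Nondeg B) {k : ℕ} {δ : ℤ}
    (hBs : HasSign B k δ) (hle : 2 * k ≤ finrank F V) (heq : finrank F V = 2 * k → HasSign Q k δ) :
    ∃ φ : orth B →* orth Q, Function.Injective φ ∧ ∀ g : orth B,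
      ((φ g).1 : V →ₗ[F] V).charpoly =
        (g.1 : W →ₗ[F] W).charpoly * (Polynomial.X - 1) ^ (finrank F V - 2 * k) := by
  have hfin : ∀ {U : Type _} [AddCommGroup U] [Module F U] [FiniteDimensional F U] (C : QuadraticForm F U),
      (B.prod C).Equivalent Q → finrank F V - 2 * k = finrank F U := by
    intro U _ _ _ C e
    obtain ⟨i⟩ := e
    have := i.toLinearEquiv.finrank_eq
    rw [finrank_prod, hBs.finrank_eq] at this
    omega
  rcases eq_or_lt_of_le hle with h | h
  · obtain ⟨e⟩ := equivalent_of_hasSign hB hQ hBs (heq h.symm)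
    refine ⟨(orthCongr e).toMonoidHom, (orthCongr e).injective, fun g => ?_⟩
    rw [h, Nat.sub_self, pow_zero, mul_one]
    exact charpoly_orthCongr e g
  rcases classify Q hQ with ⟨m, hm, eQ⟩ | ⟨m, c, hc, h2, hm, eQ⟩ | ⟨m, a, b, hab, hm, eQ⟩
  rotate_left
  · -- odd dimension
    let C : QuadraticForm F ((Fin (m - k) ⊕ Fin (m - k) → F) × F) := (qPlus (m - k)).prod (qOne 1)
    have hC : Nondeg C := prod_nondeg (qPlus_nondeg _) (qOne_nondeg one_ne_zero h2)
    rcases classify (B.prod C) (prod_nondeg hB hC) with ⟨j, hj, -⟩ | ⟨j, d, hd, -, hj, eW⟩ |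
        ⟨j, a, b, -, hj, -⟩
    · rw [finrank_prod, hBs.finrank_eq, finrank_prod, finrank_self] at hj
      simp at hj; omega
    · have hjm : j = m := by
        rw [finrank_prod, hBs.finrank_eq, finrank_prod, finrank_self] at hj
        simp at hj; omega
      subst hjm
      obtain ⟨s, hs⟩ := Orth52.exists_similar_qPlus (F := F) j (mul_ne_zero hd (inv_ne_zero hc))
      -- `B ⊕ C ≅ (d / c) • Q`
      have e1 : ((qPlus (F := F) j).prod (qOne d)).Equivalent ((d * c⁻¹) • Q) := by
        obtain ⟨i⟩ := eQ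
        refine ⟨{ ((s.symm.prodCongr (LinearEquiv.refl F F)).trans i.toLinearEquiv.symm) with
          map_app' := fun v => ?_ }⟩
        show (d * c⁻¹) • Q (i.toLinearEquiv.symm (s.symm v.1, v.2)) = qPlus j v.1 + qOne d v.2
        rw [Orth52.equiv_apply i, QuadraticMap.prod_apply, smul_eq_mul, mul_add, ← hs, s.apply_symm_apply,
          qOne_apply, qOne_apply]
        field_simp
      obtain ⟨e⟩ := eW.trans e1
      let ψ := (orthCongr e).trans (MulEquiv.subgroupCongr (orth_smul Q (mul_ne_zero hd (inv_ne_zero hc))))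
      refine ⟨ψ.toMonoidHom.comp (orthExtend B C), ψ.injective.comp (orthExtend_injective B C), fun g => ?_⟩
      have : finrank F V - 2 * k = finrank F ((Fin (j - k) ⊕ Fin (j - k) → F) × F) := by
        simp; omega
      rw [this, ← orthExtend_charpoly B C g, ← charpoly_orthCongr e]
      rfl
    · rw [finrank_prod, hBs.finrank_eq, finrank_prod, finrank_self] at hj
      simp at hj; omega
  all_goals
    obtain ⟨M, hM⟩ : ∃ M, finrank F V = 2 * M := by
      first | exact ⟨m, hm⟩ | exact ⟨m + 1, by omega⟩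
    obtain ⟨η, hη⟩ : ∃ η, HasSign Q M η := by
      rcases exists_hasSign hQ hM with ⟨s, -⟩ | ⟨s, -⟩ <;> exact ⟨_, s⟩
    have hpm : η * δ = 1 ∨ η * δ = -1 := by
      rcases hη.sign with rfl | rfl <;> rcases hBs.sign with rfl | rfl <;> norm_num
    obtain ⟨ι, _, C, hC, hCs⟩ := exists_model_sign (F := F) (m := M - k) (by omega) hpm
    have hW := hBs.prod hCs
    rw [show k + (M - k) = M by omega, show δ * (η * δ) = η by
      rcases hBs.sign with rfl | rfl <;> ring] at hW
    obtain ⟨e⟩ := equivalent_of_hasSign (prod_nondeg hB hC) hQ hW hη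
    refine ⟨(orthCongr e).toMonoidHom.comp (orthExtend B C),
      (orthCongr e).injective.comp (orthExtend_injective B C), fun g => ?_⟩
    rw [hfin C ⟨e⟩, ← orthExtend_charpoly B C g]
    exact charpoly_orthCongr e _

/-- A fixed-point-free element of order dividing `r` pins down the type. -/
theorem sign_of_free {V : Type*} [AddCommGroup V] [Module F V] [FiniteDimensional F V]
    {Q : QuadraticForm F V} {m : ℕ} {ε : ℤ} (h : HasSign Q m ε) {r : ℕ} [hr : Fact r.Prime]
    (hrq : ¬ r ∣ Nat.card F) (g : orth Q) (hgr : g ^ r = 1) (hfix : ∀ v, g.1 v = v → v = 0) :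
    ((Nat.card F : ℕ) : ZMod r) ^ m = (ε : ZMod r) := by
  haveI := Module.finite_of_finite F (M := V)
  have h1 : (levelCard Q 1 : ZMod r) = 0 :=
    (ZMod.natCast_eq_zero_iff _ _).2 (Elusive19.dvd_levelCard g hgr hfix)
  have h2 := congrArg (fun z : ℤ => (z : ZMod r)) (h.level 1 one_ne_zero)
  push_cast at h2
  rw [h1, zero_mul, pow_mul', _root_.sq] at h2
  have hq : ((Nat.card F : ℕ) : ZMod r) ≠ 0 := fun e => hrq ((ZMod.natCast_eq_zero_iff _ _).1 e)
  have h3 : ((Nat.card F : ℕ) : ZMod r) ^ m * (((Nat.card F : ℕ) : ZMod r) ^ m - (ε : ZMod r)) = 0 := by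
    linear_combination -h2
  exact sub_eq_zero.1 ((mul_eq_zero.1 h3).resolve_left (pow_ne_zero _ hq))

end Cfsg.Agent.Lib.Elem70.ClassCount
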