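import Cfsg.Agent.Lib.Elem70.ClassCount.SpClasses
import Cfsg.Agent.Lib.Elem70.ClassCount.OrthForms
import Cfsg.Agent.Lib.Forms.Det
import Cfsg.Agent.S2590

/-!
# Characteristic polynomials of elements of odd order in orthogonal groups

Owner: helper70.
-/

set_option autoImplicit false

namespace Cfsg.Agent.Lib.Elem70.ClassCount

open Polynomial Matrix Cfsg.Agent.Lib.GLFlags Cfsg.Agent.Lib.Forms

variable {F : Type*} [Field F]

/-- Over the algebraic closure a matrix of order prime to `p` is `r`-torsion iff its eigenvalues are. -/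
theorem matrix_pow_eq_one_iff {p : ℕ} [Fact p.Prime] [CharP F p] {ι : Type*} [Fintype ι] [DecidableEq ι]
    {r N : ℕ} (A : Matrix ι ι F) (hN : N.Coprime p) (hA : A ^ N = 1) :
    A ^ r = 1 ↔ ∀ x : AlgebraicClosure F, aeval x A.charpoly = 0 → x ^ r = 1 := by
  classical
  let K := AlgebraicClosure F
  let φ := (algebraMap F K).mapMatrix (m := ι)
  have hφ : Function.Injective φ := Matrix.map_injective (algebraMap F K).injective
  have hcp : ∀ x : K, (φ A).charpoly.eval x = aeval x A.charpoly := fun x => by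
    rw [aeval_def, ← Polynomial.eval_map, ← Matrix.charpoly_map]; rfl
  constructor
  · intro hr x hx
    rw [← hcp, Matrix.eval_charpoly, ← Matrix.exists_mulVec_eq_zero_iff] at hx
    obtain ⟨v, hv, hvx⟩ := hx
    rw [Matrix.sub_mulVec, sub_eq_zero] at hvx
    have hgv : φ A *ᵥ v = x • v := by
      rw [← hvx]; ext j; simp [Matrix.mulVec_diagonal]
    have hpow : ∀ k : ℕ, φ A ^ k *ᵥ v = x ^ k • v := by
      intro k
      induction k with
      | zero => simp
      | succ k ih =>
        rw [pow_succ', ← Matrix.mulVec_mulVec, ih, Matrix.mulVec_smul, hgv, smul_smul, pow_succ]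
    have h1 := hpow r
    rw [← map_pow, hr, map_one, Matrix.one_mulVec] at h1
    refine (smul_left_injective K hv).eq_iff.1 ?_
    rw [← h1, one_smul]
  · intro hroot
    set M := Multiset.card (φ A).charpoly.roots with hM
    have hdvd : (φ A).charpoly ∣ (X ^ r - 1 : K[X]) ^ M := by
      rw [(IsAlgClosed.splits (φ A).charpoly).eq_prod_roots_of_monic (Matrix.charpoly_monic _), hM,
        ← Multiset.prod_replicate, ← Multiset.map_const']
      refine Multiset.prod_dvd_prod_of_dvd _ _ fun x hx => ?_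
      rw [Polynomial.dvd_iff_isRoot]
      have h0 := (Polynomial.mem_roots'.1 hx).2
      rw [Polynomial.IsRoot, hcp] at h0
      simp [hroot x h0]
    obtain ⟨w, hw⟩ := hdvd
    have hnil : (φ A ^ r - 1) ^ M = 0 := by
      have := congrArg (Polynomial.aeval (φ A)) hw
      simpa [Matrix.aeval_self_charpoly] using this
    have hp := (Fact.out : p.Prime)
    haveI : CharP K p := charP_of_injective_algebraMap (algebraMap F K).injective p
    rcases isEmpty_or_nonempty ι with he | hne
    · exact Subsingleton.elim _ _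
    haveI : CharP (Matrix ι ι K) p := charP_of_injective_algebraMap (algebraMap K _).injective p
    have h3 : (φ A ^ r - 1) ^ p ^ M = 0 := by
      obtain ⟨j, hj⟩ := Nat.exists_eq_add_of_le (Nat.lt_pow_self hp.one_lt (n := M)).le
      rw [hj, pow_add, hnil, zero_mul]
    rw [sub_pow_char_pow_of_commute _ _ (Commute.one_right _), one_pow, sub_eq_zero, ← pow_mul, ← map_pow,
      ← map_one φ] at h3
    have h4 : A ^ (r * p ^ M).gcd N = 1 := pow_gcd_eq_one.2 ⟨hφ h3, hA⟩
    have h5 : (r * p ^ M).gcd N ∣ r := by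
      rw [Nat.Coprime.gcd_mul_right_cancel r ((hN.pow_right M).symm)]
      exact Nat.gcd_dvd_left r N
    obtain ⟨c, hc⟩ := h5
    rw [hc, pow_mul, h4, one_pow]

variable {V : Type*} [AddCommGroup V] [Module F V] [FiniteDimensional F V]

/-- The characteristic polynomial of an isometry. -/
noncomputable def ocp {Q : QuadraticForm F V} (g : orth Q) : F[X] := (g.1 : V →ₗ[F] V).charpoly

theorem ocp_monic {Q : QuadraticForm F V} (g : orth Q) : (ocp g).Monic := LinearMap.charpoly_monic _

theorem ocp_natDegree {Q : QuadraticForm F V} (g : orth Q) : (ocp g).natDegree = Module.finrank F V :=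
  LinearMap.charpoly_natDegree _

theorem ocp_conj {Q : QuadraticForm F V} {g g' : orth Q} (h : IsConj g g') : ocp g = ocp g' := by
  obtain ⟨c, rfl⟩ := isConj_iff.1 h
  rw [ocp, ocp, ← LinearEquiv.charpoly_conj c.1 (g.1 : V →ₗ[F] V)]
  exact congrArg _ (LinearMap.ext fun v => rfl)

/-- Coordinates: a matrix for each isometry. -/
theorem exists_coords {Q : QuadraticForm F V} (hQ : Nondeg Q) :
    ∃ (Q' : QuadraticForm F (Fin (Module.finrank F V) → F)) (ψ : orth Q ≃* Cfsg.isometryGroup F ⇑Q'),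
      Nondeg Q' ∧ ∀ g, ((ψ g : Matrix.GeneralLinearGroup (Fin (Module.finrank F V)) F) :
        Matrix (Fin (Module.finrank F V)) (Fin (Module.finrank F V)) F).charpoly = ocp g := by
  classical
  let b := Module.finBasis F V
  let e := b.equivFun
  let i : Q.IsometryEquiv (Q.comp e.symm.toLinearMap) :=
    { toLinearEquiv := e, map_app' := fun v => congrArg Q (e.symm_apply_apply v) }
  refine ⟨_, (orthCongr i).trans (isoOrth _ (fun _ => rfl)).symm, hQ.of_equiv i, fun g => ?_⟩
  rw [ocp, ← charpoly_orthCongr i g, ← Matrix.charpoly_toLin']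
  congr 1
  refine LinearMap.ext fun v => ?_
  rw [Matrix.toLin'_apply, ← isoOrth_apply _ (fun _ => rfl), MulEquiv.trans_apply, MulEquiv.apply_symm_apply]
  rfl

theorem isConj_of_ocp [Fintype F] {p : ℕ} [Fact p.Prime] [CharP F p] {Q : QuadraticForm F V} (hQ : Nondeg Q)
    (g g' : orth Q) (hodd : Odd (orderOf g)) (hg : (orderOf g).Coprime p) (hg' : (orderOf g').Coprime p)
    (h : ocp g = ocp g') : IsConj g g' := by
  classical
  obtain ⟨Q', ψ, hQ', hψ⟩ := exists_coords hQ
  have key : IsConj (ψ g) (ψ g') := by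
    refine (Cfsg.Agent.S2590.result (p := p) Q' hQ'.polarBilin (ψ g) (ψ g')
      (by rwa [ψ.orderOf_eq]) (by rwa [ψ.orderOf_eq])).2 ?_
    have hN : ((orderOf g * orderOf g' : ℕ) : F) ≠ 0 :=
      SemisimpleClasses.natCast_ne_zero_of_coprime (hg.mul_left hg')
    have hpow : ∀ (x : orth Q) (k : ℕ), x ^ k = 1 →
        Matrix.toLin' ((ψ x : Matrix.GeneralLinearGroup (Fin (Module.finrank F V)) F) :
          Matrix (Fin (Module.finrank F V)) (Fin (Module.finrank F V)) F) ^ k = 1 := fun x k hk => by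
      rw [← Matrix.toLin'_pow, ← Units.val_pow_eq_pow_val, ← SubmonoidClass.coe_pow, ← map_pow, hk, map_one]
      exact Matrix.toLin'_one
    obtain ⟨c, hc⟩ := SemisimpleClasses.exists_conj_of_charpoly hN _ _ rfl
      (hpow g _ (by rw [pow_mul, pow_orderOf_eq_one, one_pow]))
      (hpow g' _ (by rw [mul_comm, pow_mul, pow_orderOf_eq_one, one_pow]))
      (by rw [Matrix.charpoly_toLin', Matrix.charpoly_toLin', hψ, hψ, h])
    refine ⟨glEquiv.symm c, Matrix.toLin'.injective ?_⟩
    rw [Matrix.toLin'_mul, Matrix.toLin'_mul]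
    have hgl : Matrix.toLin' ((glEquiv.symm c : Matrix.GeneralLinearGroup (Fin (Module.finrank F V)) F) :
        Matrix (Fin (Module.finrank F V)) (Fin (Module.finrank F V)) F) =
        (c : (Fin (Module.finrank F V) → F) →ₗ[F] _) := LinearMap.ext fun v => by
      rw [Matrix.toLin'_apply, ← glEquiv_apply, MulEquiv.apply_symm_apply]
      rfl
    rw [hgl, ← hc]
    exact LinearMap.ext fun v => by simp [LinearEquiv.conj_apply]
  simpa using (ψ.symm.toMonoidHom.map_isConj key)

theorem orth_pow_eq_one_iff {p : ℕ} [Fact p.Prime] [CharP F p] {Q : QuadraticForm F V} (hQ : Nondeg Q)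
    {r : ℕ} (g : orth Q) (hg : (orderOf g).Coprime p) :
    g ^ r = 1 ↔ ∀ x : AlgebraicClosure F, aeval x (ocp g) = 0 → x ^ r = 1 := by
  obtain ⟨Q', ψ, -, hψ⟩ := exists_coords hQ
  rw [← hψ, ← matrix_pow_eq_one_iff _ hg (by
    rw [← Units.val_pow_eq_pow_val, ← SubmonoidClass.coe_pow, ← map_pow, pow_orderOf_eq_one, map_one]; rfl),
    ← Units.val_pow_eq_pow_val, ← SubmonoidClass.coe_pow, ← map_pow, Units.val_eq_one, OneMemClass.coe_eq_one,
    EmbeddingLike.map_eq_one_iff]

/-- Symmetry of the characteristic polynomial of an isometry of odd order. -/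
theorem ocp_reverse {Q : QuadraticForm F V} (hQ : Nondeg Q) {r : ℕ} (hr : Odd r) (g : orth Q) (hg : g ^ r = 1) :
    (ocp g).reverse = (-1 : F[X]) ^ Module.finrank F V * ocp g := by
  classical
  obtain ⟨Q', ψ, hQ', hψ⟩ := exists_coords hQ
  set A := ((ψ g : Matrix.GeneralLinearGroup (Fin (Module.finrank F V)) F) :
        Matrix (Fin (Module.finrank F V)) (Fin (Module.finrank F V)) F) with hA
  have hiso : ∀ v, Q' (A *ᵥ v) = Q' v := fun v => (ψ g).2 v v
  have hAr : A ^ r = 1 := by
    rw [hA, ← Units.val_pow_eq_pow_val, ← SubmonoidClass.coe_pow, ← map_pow, hg, map_one]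
    rfl
  have hdet : A.det = 1 := by
    have h1 : A.det ^ r = 1 := by rw [← Matrix.det_pow, hAr, Matrix.det_one]
    rcases det_sq_of_isometry hQ' A hiso with h | h
    · exact h
    · rw [h, hr.neg_one_pow] at h1
      rw [h, h1]
  have hgram : Aᵀ * gram Q' * A = gram Q' := by
    ext i j
    have := Forms.polar_map (Matrix.mulVecLin A) hiso (Pi.single i 1) (Pi.single j 1)
    rw [polar_eq_gram, polar_eq_gram, Matrix.mulVecLin_apply, Matrix.mulVecLin_apply,
      Matrix.dotProduct_mulVec, Matrix.dotProduct_mulVec, ← Matrix.vecMul_transpose,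
      Matrix.vecMul_vecMul, Matrix.dotProduct_mulVec, Matrix.vecMul_vecMul,
      ← Matrix.dotProduct_mulVec, ← Matrix.dotProduct_mulVec] at this
    simpa [Matrix.mul_assoc] using this
  let G : GL (Fin (Module.finrank F V)) F :=
    Matrix.GeneralLinearGroup.mk'' (gram Q') (isUnit_iff_ne_zero.2 (gram_det_ne_zero hQ'))
  have hGv : (G : Matrix (Fin (Module.finrank F V)) (Fin (Module.finrank F V)) F) = gram Q' := rfl
  have hinv : A⁻¹ = (G⁻¹ : GL (Fin (Module.finrank F V)) F).val * Aᵀ * G.val := by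
    refine Matrix.inv_eq_left_inv ?_
    rw [Matrix.mul_assoc, Matrix.mul_assoc, ← Matrix.mul_assoc Aᵀ, hGv, hgram, ← hGv]
    exact Units.inv_mul G
  have h1 : A⁻¹.charpoly = A.charpoly := by
    rw [hinv, Matrix.coe_units_inv, Matrix.charpoly_units_conj', Matrix.charpoly_transpose]
  rw [Matrix.charpoly_inv A ((Matrix.isUnit_iff_isUnit_det A).2 (hdet ▸ isUnit_one)),
    ← Matrix.reverse_charpoly, hdet, Ring.inverse_one, hψ, Fintype.card_fin] at h1
  simp only [map_one, mul_one] at h1
  calc (ocp g).reverse = ((-1) * (-1) : F[X]) ^ Module.finrank F V * (ocp g).reverse := by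
        rw [neg_one_mul, neg_neg, one_pow, one_mul]
    _ = (-1 : F[X]) ^ Module.finrank F V * ocp g := by rw [mul_pow, mul_assoc, h1]

/-- Two monic polynomials with the same substituted values agree. -/
theorem param_unique {h h' : F[X]} (e : ∀ x : AlgebraicClosure F, x ≠ 0 →
    aeval (x + x⁻¹) h = aeval (x + x⁻¹) h') : h = h' := by
  refine Polynomial.map_injective _ (algebraMap F (AlgebraicClosure F)).injective ?_
  refine Polynomial.funext fun a => ?_
  obtain ⟨x, hx⟩ := IsAlgClosed.exists_root (Polynomial.X ^ 2 - Polynomial.C a * Polynomial.X + 1) (by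
    intro hd
    have := Polynomial.coeff_eq_zero_of_degree_lt (n := 2)
      (p := Polynomial.X ^ 2 - Polynomial.C a * Polynomial.X + 1) (by rw [hd]; norm_num)
    simp [Polynomial.coeff_one, Polynomial.coeff_X] at this)
  have hx' : x ^ 2 - a * x + 1 = 0 := by simpa using hx
  have hx0 : x ≠ 0 := fun h0 => by rw [h0] at hx'; simp at hx'
  have ha : x + x⁻¹ = a := by
    field_simp
    linear_combination hx'
  rw [Polynomial.eval_map, Polynomial.eval_map, ← Polynomial.aeval_def, ← Polynomial.aeval_def, ← ha]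
  exact e x hx0

theorem eq_of_aeval_ne_zero {f f' : F[X]}
    (e : ∀ x : AlgebraicClosure F, x ≠ 0 → aeval x f = aeval x f') : f = f' := by
  refine Polynomial.map_injective _ (algebraMap F (AlgebraicClosure F)).injective ?_
  refine Polynomial.eq_of_infinite_eval_eq _ _ ?_
  refine Set.Infinite.mono (s := {(0 : AlgebraicClosure F)}ᶜ) (fun x hx => ?_)
    (Set.Finite.infinite_compl (Set.finite_singleton _))
  rw [Set.mem_setOf_eq, Polynomial.eval_map, Polynomial.eval_map, ← aeval_def, ← aeval_def]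
  exact e x hx

/-- Every self-reciprocal monic polynomial of degree `2 * m` is `x ^ m * h (x + x⁻¹)`. -/
theorem exists_param [Fintype F] (p : ℕ) [Fact p.Prime] [CharP F p] {m : ℕ} {f : F[X]} (hf : f.Monic)
    (hd : f.natDegree = 2 * m) (hrev : f.reverse = f) :
    ∃ h : F[X], h.Monic ∧ h.natDegree = m ∧ ∀ x : AlgebraicClosure F, x ≠ 0 →
      aeval x f = x ^ m * aeval (x + x⁻¹) h := by
  classical
  rcases Nat.eq_zero_or_pos m with rfl | hm
  · refine ⟨1, monic_one, natDegree_one, fun x _ => ?_⟩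
    rw [eq_one_of_monic_natDegree_zero hf (by simpa using hd)]; simp
  obtain ⟨g, -, hev, -, -⟩ := exists_sp_reps (F := F) p m
  let Φ : {h : F[X] // h.Monic ∧ h.natDegree = m} → Cfsg.Agent.S2385.Pal F m := fun h =>
    ⟨(g h : Matrix (Fin m ⊕ Fin m) (Fin m ⊕ Fin m) F).charpoly,
      ⟨Matrix.charpoly_monic _,
        by rw [Matrix.charpoly_natDegree_eq_dim, Fintype.card_sum, Fintype.card_fin]; ring⟩,
      Cfsg.Agent.S2385.charpoly_pal _⟩
  haveI : Finite (Cfsg.Agent.S2385.Pal F m) := Nat.finite_of_card_ne_zero (by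
    rw [Cfsg.Agent.S2385.card_pal hm]; exact pow_ne_zero _ Fintype.card_ne_zero)
  have hΦ : Function.Injective Φ := fun h h' e => Subtype.ext (param_unique fun x hx => by
    have h1 := hev h x hx
    rw [show (g h : Matrix (Fin m ⊕ Fin m) (Fin m ⊕ Fin m) F).charpoly =
      (g h' : Matrix (Fin m ⊕ Fin m) (Fin m ⊕ Fin m) F).charpoly from congrArg Subtype.val e, hev h' x hx] at h1
    exact (mul_left_cancel₀ (pow_ne_zero _ hx) h1).symm)
  have hcard : Nat.card {h : F[X] // h.Monic ∧ h.natDegree = m} = Fintype.card F ^ m := by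
    rw [Nat.card_congr ((monicEquivDegreeLT m).trans (degreeLTEquiv F m).toEquiv), Nat.card_fun,
      Nat.card_fin, Nat.card_eq_fintype_card]
  obtain ⟨h, hh⟩ := (hΦ.bijective_of_nat_card_le (by rw [hcard, Cfsg.Agent.S2385.card_pal hm])).2
    ⟨f, ⟨hf, hd⟩, fun i hi => by
      conv_lhs => rw [← hrev, coeff_reverse, hd, revAt_le hi]⟩
  exact ⟨h.1, h.2.1, h.2.2, fun x hx => by
    rw [show f = (g h : Matrix (Fin m ⊕ Fin m) (Fin m ⊕ Fin m) F).charpoly from
      (congrArg Subtype.val hh).symm]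
    exact hev h x hx⟩

/-- A quadratic space of dimension `2 * m` with an element whose parameter is `h`. -/
theorem exists_block [Fintype F] (p : ℕ) [Fact p.Prime] [CharP F p] {m : ℕ} {h : F[X]} (hm : h.Monic)
    (hd : h.natDegree = m) (h2 : h.eval 2 ≠ 0) (h2' : h.eval (-2) ≠ 0) :
    ∃ (Q : QuadraticForm F (Fin m ⊕ Fin m → F)) (g : orth Q), Nondeg Q ∧ (orderOf g).Coprime p ∧
      ∀ x : AlgebraicClosure F, x ≠ 0 → aeval x (ocp g) = x ^ m * aeval (x + x⁻¹) h := by
  classical
  obtain ⟨P, M, hP, hPu, hPM, hM⟩ := CyclicForm.exists_symmetric_pair hm hd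
  let G : Matrix (Fin m ⊕ Fin m) (Fin m ⊕ Fin m) F := Matrix.fromBlocks P (P * M) 0 P
  let Q := G.toQuadraticForm'
  have hQG : ∀ v, Q v = v ⬝ᵥ G *ᵥ v := fun v => Matrix.toLinearMap₂'_apply' G v v
  let A : Matrix (Fin m ⊕ Fin m) (Fin m ⊕ Fin m) F := Matrix.fromBlocks 0 (-1) 1 M
  have hAG : Aᵀ * (G * A) = G := by
    simp only [A, G, Matrix.fromBlocks_transpose, Matrix.fromBlocks_multiply, Matrix.transpose_zero,
      Matrix.transpose_neg, Matrix.transpose_one, Matrix.zero_mul, Matrix.mul_zero, Matrix.one_mul,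
      Matrix.mul_one, Matrix.neg_mul, Matrix.mul_neg, zero_add, add_zero, ← Matrix.mul_assoc, hPM]
    congr 1 <;> simp [Matrix.mul_add, ← Matrix.mul_assoc, hPM]
  have hA : ∀ v, Q (A *ᵥ v) = Q v := fun v => by
    rw [hQG, hQG, Matrix.mulVec_mulVec, ← Matrix.vecMul_transpose, ← Matrix.dotProduct_mulVec,
      Matrix.mulVec_mulVec, hAG]
  have hker : ∀ c : F, h.eval c ≠ 0 → ∀ w, c • w = M *ᵥ w → w = 0 := fun c hc w hw => by
    by_contra hw0
    refine hc ?_
    rw [← hM, Matrix.eval_charpoly]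
    refine Matrix.exists_mulVec_eq_zero_iff.1 ⟨w, hw0, ?_⟩
    rw [Matrix.sub_mulVec, sub_eq_zero, ← hw]
    ext j; simp [Matrix.mulVec_diagonal]
  have hQ : Nondeg Q := by
    intro v hv
    have hpol : ∀ y, y ⬝ᵥ (G + Gᵀ) *ᵥ v = 0 := fun y => by
      have h1 := hv y
      simp only [Q, Matrix.toQuadraticForm', LinearMap.BilinMap.polar_toQuadraticMap,
        Matrix.toLinearMap₂'_apply'] at h1
      rw [Matrix.add_mulVec, dotProduct_add, ← h1, add_comm]
      congr 1
      rw [Matrix.mulVec_transpose, dotProduct_comm, Matrix.dotProduct_mulVec]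
    have h0 : (G + Gᵀ) *ᵥ v = 0 := dotProduct_eq_zero _ fun y => by rw [dotProduct_comm]; exact hpol y
    obtain ⟨u, w, rfl⟩ : ∃ u w, v = Sum.elim u w := ⟨v ∘ Sum.inl, v ∘ Sum.inr, (Sum.elim_comp_inl_inr v).symm⟩
    rw [show G + Gᵀ = Matrix.fromBlocks (P + P) (P * M) (P * M) (P + P) by
      simp [G, Matrix.fromBlocks_transpose, Matrix.fromBlocks_add, Matrix.transpose_mul, hP, hPM],
      Matrix.fromBlocks_mulVec] at h0
    have hu := congrArg (fun f => f ∘ Sum.inl) h0
    have hw := congrArg (fun f => f ∘ Sum.inr) h0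
    simp only [Sum.elim_comp_inl, Sum.elim_comp_inr, ← Matrix.mulVec_mulVec, ← Matrix.mulVec_add,
      Matrix.add_mulVec] at hu hw
    replace hu : u + u + M *ᵥ w = 0 := Matrix.mulVec_injective_of_isUnit hPu (by rw [hu]; exact (Matrix.mulVec_zero P).symm)
    replace hw : M *ᵥ u + (w + w) = 0 := Matrix.mulVec_injective_of_isUnit hPu (by rw [hw]; exact (Matrix.mulVec_zero P).symm)
    have hs : u + w = 0 := hker (-2) h2' _ (by
      rw [Matrix.mulVec_add]
      ext j
      have a1 := congrFun hu j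
      have a2 := congrFun hw j
      simp at a1 a2 ⊢
      linear_combination -a1 - a2)
    have hu0 : u = 0 := hker 2 h2 _ (by
      rw [eq_neg_of_add_eq_zero_right hs, Matrix.mulVec_neg] at hu
      ext j
      have a1 := congrFun hu j
      simp at a1 ⊢
      linear_combination a1)
    rw [hu0, zero_add] at hs
    rw [hu0, hs]
    exact funext fun j => by rcases j with j | j <;> rfl
  have hdet : IsUnit A.det := by
    refine Matrix.isUnit_det_of_left_inverse (B := Matrix.fromBlocks M 1 (-1) 0) ?_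
    simp [A, Matrix.fromBlocks_multiply, Matrix.fromBlocks_one]
  let u : GL (Fin m ⊕ Fin m) F := Matrix.GeneralLinearGroup.mk'' A hdet
  obtain ⟨k, hk, hkc⟩ := SemisimpleClasses.exists_pow_charpoly (p := p) u
  let a : Cfsg.isometryGroup F ⇑Q := ⟨u, fun v _ => hA v⟩
  refine ⟨Q, isoOrth Q (fun _ => rfl) (a ^ k), hQ, ?_, fun x hx => ?_⟩
  · rw [MulEquiv.orderOf_eq, ← Subgroup.orderOf_coe, SubmonoidClass.coe_pow]
    exact hk
  · have e1 : ocp (isoOrth Q (fun _ => rfl) (a ^ k)) = A.charpoly := by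
      show _ = u.val.charpoly
      rw [← hkc, ← Matrix.charpoly_toLin' (u ^ k).val]
      unfold ocp
      congr 1
    rw [e1, Polynomial.aeval_def, ← Polynomial.eval_map, ← Matrix.charpoly_map, Matrix.fromBlocks_map,
      Matrix.map_zero _ (map_zero _), Matrix.map_neg _ (map_neg _), Matrix.map_one _ (map_zero _) (map_one _),
      Cfsg.Agent.S2385.eval_block 1 1 _ (Matrix.one_mul _) hx, Matrix.charpoly_map, hM, Polynomial.eval_map,
      Polynomial.aeval_def]

end Cfsg.Agent.Lib.Elem70.ClassCount
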