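import Cfsg.Agent.S2386
import Cfsg.Agent.S2587
import Cfsg.Agent.Lib.Elem70.ClassCount.Orbits
import Cfsg.Agent.Lib.Elem70.ClassCount.OrthBlock

/-!
# Semisimple classes of the general unitary group through eigenvalue multisets

Owner: helper70.
-/

set_option autoImplicit false

namespace Cfsg.Agent.Lib.Elem70.ClassCount

open Polynomial Matrix Cfsg.Agent.Lib.GLFlags Cfsg.Agent.Lib.Unitary

variable {F : Type*} [Field F] [Fintype F] {q n : ℕ}

/-- The eigenvalues, in an algebraic closure. -/
noncomputable def eigen (g : ↥(Cfsg.GU n F q)) : Multiset (AlgebraicClosure F) := g.1.1.charpoly.aroots _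

omit [Fintype F] in
theorem eigen_card (g : ↥(Cfsg.GU n F q)) : Multiset.card (eigen g) = n := by
  rw [eigen, aroots_def, (IsAlgClosed.splits _).natDegree_eq_card_roots.symm, natDegree_map,
    Matrix.charpoly_natDegree_eq_dim, Fintype.card_fin]

omit [Fintype F] in
theorem mem_eigen (g : ↥(Cfsg.GU n F q)) {x : AlgebraicClosure F} :
    x ∈ eigen g ↔ aeval x g.1.1.charpoly = 0 := by
  rw [eigen, mem_aroots]
  exact and_iff_right (Matrix.charpoly_monic _).ne_zero

omit [Fintype F] in
theorem charpoly_eq_prod (g : ↥(Cfsg.GU n F q)) :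
    g.1.1.charpoly.map (algebraMap F (AlgebraicClosure F)) = ((eigen g).map fun x => X - C x).prod :=
  (IsAlgClosed.splits _).eq_prod_roots_of_monic ((Matrix.charpoly_monic _).map _)

/-- Reversing a product of linear factors. -/
theorem reverse_prod_linear {K : Type*} [Field K] (M : Multiset K) (hM : ∀ x ∈ M, x ≠ 0) :
    (M.map fun x => X - C x).prod.reverse =
      C ((-1) ^ Multiset.card M * M.prod) * ((M.map fun x => x⁻¹).map fun x => X - C x).prod := by
  induction M using Multiset.induction with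
  | empty => simpa using reverse_C (1 : K)
  | cons a M ih =>
    have ha : a ≠ 0 := hM a (Multiset.mem_cons_self a M)
    have h1 : (X - C a).reverse = C (-a) * (X - C a⁻¹) := by
      rw [mul_sub, ← C_mul, neg_mul, mul_inv_cancel₀ ha]
      ext j
      rw [coeff_reverse, natDegree_X_sub_C]
      rcases j with _ | _ | j
      · rw [revAt_le (by omega)]; simp [coeff_one]
      · rw [revAt_le (by omega)]; simp [coeff_one]
      · rw [revAt_eq_self_of_lt (by omega)]; simp [coeff_one, coeff_X, coeff_C]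
    rw [Multiset.map_cons, Multiset.prod_cons, reverse_mul_of_domain, h1,
      ih fun x hx => hM x (Multiset.mem_cons_of_mem hx), Multiset.map_cons, Multiset.map_cons,
      Multiset.prod_cons, Multiset.prod_cons, Multiset.card_cons, pow_succ]
    simp only [map_mul, map_pow, map_neg, map_one]
    ring

theorem exists_charP_pow (hF : Fintype.card F = q ^ 2) :
    ∃ p f : ℕ, p.Prime ∧ CharP (AlgebraicClosure F) p ∧ q = p ^ f := by
  obtain ⟨p, f, hp, hc, -, hq⟩ := q_eq_primePow hF
  exact ⟨p, f, hp, charP_of_injective_algebraMap (algebraMap F (AlgebraicClosure F)).injective p, hq⟩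

theorem pow_q_ringHom (hF : Fintype.card F = q ^ 2) :
    ∃ φ : AlgebraicClosure F →+* AlgebraicClosure F, ∀ x, φ x = x ^ q := by
  obtain ⟨p, f, hp, hc, rfl⟩ := exists_charP_pow hF
  haveI := Fact.mk hp
  exact ⟨iterateFrobenius (AlgebraicClosure F) p f, fun x => iterateFrobenius_def p f x⟩

theorem eigen_ne_zero (g : ↥(Cfsg.GU n F q)) {x : AlgebraicClosure F} (hx : x ∈ eigen g) : x ≠ 0 := by
  rintro rfl
  have h1 := (mem_eigen g).1 hx
  rw [← coeff_zero_eq_aeval_zero', map_eq_zero] at h1
  have h2 := Matrix.det_eq_sign_charpoly_coeff g.1.1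
  rw [h1, mul_zero] at h2
  exact (Matrix.GeneralLinearGroup.det g.1).ne_zero h2

/-- The eigenvalues are permuted by `x ↦ x^(-q)`. -/
theorem eigen_inv (hF : Fintype.card F = q ^ 2) (g : ↥(Cfsg.GU n F q)) :
    (eigen g).map (fun x => x ^ q) = (eigen g).map fun x => x⁻¹ := by
  classical
  obtain ⟨φ, hφ⟩ := pow_q_ringHom hF
  have hst := Cfsg.Agent.S2386.st_of_mem_GU hF g
  have hu : IsUnit g.1.1 := g.1.isUnit
  have h2 := Matrix.charpoly_inv g.1.1 hu
  rw [Matrix.inv_eq_left_inv hst, Matrix.charpoly_transpose, Matrix.charpoly_map,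
    ← Matrix.reverse_charpoly] at h2
  have hP : g.1.1.charpoly.reverse.map (algebraMap F (AlgebraicClosure F)) =
      ((eigen g).map fun x => X - C x).prod.reverse := by
    rw [← charpoly_eq_prod]
    simp [Polynomial.reverse, Polynomial.reflect_map, natDegree_map]
  have h3 := congrArg (Polynomial.map (algebraMap F (AlgebraicClosure F))) h2
  rw [Polynomial.map_mul, Polynomial.map_mul, hP, reverse_prod_linear _ (fun x hx => eigen_ne_zero g hx),
    show (g.1.1.charpoly.map (conj hF)).map (algebraMap F (AlgebraicClosure F)) =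
      (g.1.1.charpoly.map (algebraMap F (AlgebraicClosure F))).map φ from by
        rw [Polynomial.map_map, Polynomial.map_map]
        congr 1
        ext x
        simp [hφ],
    charpoly_eq_prod, Polynomial.map_multiset_prod, Multiset.map_map] at h3
  have h4 := congrArg Polynomial.roots h3
  simp only [Function.comp_def, Polynomial.map_sub, Polynomial.map_X, Polynomial.map_C, hφ] at h4
  rw [show (eigen g).map (fun x => X - C (x ^ q)) = ((eigen g).map (fun x => x ^ q)).map (fun x => X - C x) by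
      rw [Multiset.map_map]; rfl, roots_multiset_prod_X_sub_C] at h4
  rw [h4, Polynomial.map_pow, Polynomial.map_neg, Polynomial.map_one,
    show ((-1 : (AlgebraicClosure F)[X]) ^ Fintype.card (Fin n)) =
      C ((-1 : AlgebraicClosure F) ^ Fintype.card (Fin n)) by simp,
    ← C_mul, ← mul_assoc, ← C_mul,
    roots_C_mul, roots_multiset_prod_X_sub_C]
  have hdet : (algebraMap F (AlgebraicClosure F)) (Ring.inverse g.1.1.det) ≠ 0 := by
    rw [Ne, map_eq_zero, Ring.inverse_eq_inv', inv_eq_zero]
    exact (Matrix.GeneralLinearGroup.det g.1).ne_zero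
  refine mul_ne_zero (mul_ne_zero (pow_ne_zero _ (neg_ne_zero.2 one_ne_zero)) hdet)
    (mul_ne_zero (pow_ne_zero _ (neg_ne_zero.2 one_ne_zero)) ?_)
  exact Multiset.prod_ne_zero fun h => eigen_ne_zero g h rfl

theorem gu_isConj_iff (hF : Fintype.card F = q ^ 2) {p : ℕ} [Fact p.Prime] [CharP F p]
    (g h : ↥(Cfsg.GU n F q)) (hg : (orderOf g).Coprime p) (hh : (orderOf h).Coprime p) :
    IsConj g h ↔ eigen g = eigen h := by
  constructor
  · intro hc
    obtain ⟨c, hc⟩ := isConj_iff.1 hc
    have hcp : g.1.1.charpoly = h.1.1.charpoly := by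
      rw [← hc, Subgroup.coe_mul, Subgroup.coe_mul, Units.val_mul, Units.val_mul, InvMemClass.coe_inv,
        Matrix.coe_units_inv, Matrix.charpoly_units_conj]
    rw [eigen, eigen, hcp]
  · intro he
    refine (Cfsg.Agent.S2587.result hF g h).2 (SemisimpleClasses.isConj_of_charpoly (p := p) g.1 h.1
      (by rwa [Subgroup.orderOf_coe]) (by rwa [Subgroup.orderOf_coe]) ?_)
    refine Polynomial.map_injective _ (algebraMap F (AlgebraicClosure F)).injective ?_
    rw [charpoly_eq_prod, charpoly_eq_prod, he]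

theorem gu_pow_eq_one_iff {p : ℕ} [Fact p.Prime] [CharP F p] {r : ℕ}
    (g : ↥(Cfsg.GU n F q)) (hg : (orderOf g).Coprime p) : g ^ r = 1 ↔ ∀ x ∈ eigen g, x ^ r = 1 := by
  rw [show (∀ x ∈ eigen g, x ^ r = 1) ↔ ∀ x : AlgebraicClosure F, aeval x g.1.1.charpoly = 0 → x ^ r = 1 from
    forall_congr' fun x => imp_congr_left (mem_eigen g),
    ← matrix_pow_eq_one_iff g.1.1 hg (by
      rw [← Units.val_pow_eq_pow_val, ← SubmonoidClass.coe_pow, pow_orderOf_eq_one]; rfl),
    ← Units.val_pow_eq_pow_val, ← SubmonoidClass.coe_pow, Units.val_eq_one, OneMemClass.coe_eq_one]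

/-- Every invariant multiset of `r`-th roots of unity is a spectrum, when `r` is prime to `q + 1`. -/
theorem exists_gu_eigen (hF : Fintype.card F = q ^ 2) (p : ℕ) [Fact p.Prime] [CharP F p] {r : ℕ}
    (hr0 : 0 < r) (hcop : r.Coprime (q + 1)) {M : Multiset (AlgebraicClosure F)} (hn : Multiset.card M = n)
    (hM : ∀ x ∈ M, x ^ r = 1) (hinv : M.map (fun x => x ^ q) = M.map fun x => x⁻¹) :
    ∃ g : ↥(Cfsg.GU n F q), (orderOf g).Coprime p ∧ eigen g = M := by
  classical
  rcases Nat.eq_zero_or_pos n with rfl | hn0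
  · refine ⟨1, by simp, ?_⟩
    rw [Multiset.card_eq_zero] at hn
    rw [hn, ← Multiset.card_eq_zero, eigen_card]
  let K := AlgebraicClosure F
  obtain ⟨φ, hφ⟩ := pow_q_ringHom hF
  have hM0 : ∀ x ∈ M, x ≠ 0 := fun x hx h => by
    have := hM x hx; rw [h, zero_pow hr0.ne'] at this; exact zero_ne_one this
  have hu : M.prod = 1 := by
    have h1 : M.prod ^ r = 1 := by
      rw [show M.prod ^ r = (M.map (fun x => x ^ r)).prod by rw [Multiset.prod_map_pow, Multiset.map_id'],
        Multiset.prod_eq_one]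
      intro y hy
      obtain ⟨x, hx, rfl⟩ := Multiset.mem_map.1 hy
      exact hM x hx
    have h2 : M.prod ^ (q + 1) = 1 := by
      have h3 := congrArg Multiset.prod hinv
      rw [Multiset.prod_map_pow, Multiset.map_id', Multiset.prod_map_inv, Multiset.map_id'] at h3
      rw [pow_succ, h3, inv_mul_cancel₀ (Multiset.prod_ne_zero fun h => hM0 0 h rfl)]
    have h4 : M.prod ^ r.gcd (q + 1) = 1 := pow_gcd_eq_one.2 ⟨h1, h2⟩
    rwa [hcop.gcd_eq_one, pow_one] at h4
  set P := (M.map fun x => X - C x).prod with hP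
  have hPm : P.Monic := monic_multiset_prod_of_monic M _ fun x _ => monic_X_sub_C x
  have hPd : P.natDegree = n := by rw [hP, natDegree_multiset_prod_X_sub_C_eq_card, hn]
  have hPφ : P.map φ = ((M.map fun x => x⁻¹).map fun x => X - C x).prod := by
    rw [← hinv, Multiset.map_map, hP, Polynomial.map_multiset_prod, Multiset.map_map]
    simp [Function.comp_def, hφ]
  have hPφφ : (P.map φ).map φ = P := by
    rw [hPφ, Polynomial.map_multiset_prod, Multiset.map_map, Multiset.map_map]
    have e1 : (M.map fun x => x⁻¹).map (fun x => x ^ q) = M := by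
      rw [Multiset.map_map]
      conv_rhs => rw [← Multiset.map_id' M]
      calc M.map ((fun x : K => x ^ q) ∘ fun x => x⁻¹) = (M.map fun x => x ^ q).map (fun x => x⁻¹) := by
            rw [Multiset.map_map]; exact Multiset.map_congr rfl fun x _ => inv_pow x q
        _ = M.map fun x => x := by rw [hinv, Multiset.map_map]; simp [Function.comp_def]
    conv_rhs => rw [hP, ← e1]
    rw [Multiset.map_map, Multiset.map_map]
    simp [Function.comp_def, hφ]
  obtain ⟨f, hf⟩ : P ∈ Polynomial.lifts (algebraMap F K) := by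
    rw [lifts_iff_coeff_lifts]
    intro j
    have h1 := congrArg (fun p : K[X] => p.coeff j) hPφφ
    simp only [coeff_map, hφ, ← pow_mul, ← sq, ← hF] at h1
    have hne : (X ^ Fintype.card F - X : F[X]) ≠ 0 := FiniteField.X_pow_card_sub_X_ne_zero F Fintype.one_lt_card
    have h2 : P.coeff j ∈ (X ^ Fintype.card F - X : F[X]).aroots K := mem_aroots.2 ⟨hne, by simp [h1]⟩
    have hsp : (X ^ Fintype.card F - X : F[X]).Splits := by
      rw [splits_iff_card_roots, FiniteField.roots_X_pow_card_sub_X,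
        FiniteField.X_pow_card_sub_X_natDegree_eq F Fintype.one_lt_card]
      rfl
    rw [aroots_def, hsp.roots_map] at h2
    obtain ⟨y, -, hy⟩ := Multiset.mem_map.1 h2
    exact ⟨y, hy⟩
  have hf' : f.map (algebraMap F K) = P := hf
  have hfm : f.Monic := monic_of_injective (algebraMap F K).injective (hf' ▸ hPm)
  have hfd : f.natDegree = n := by rw [← hPd, ← hf', natDegree_map]
  have hsd : ∀ j ≤ n, f.coeff j ^ q = (-1) ^ n * f.coeff (n - j) := by
    intro j hj
    refine (algebraMap F K).injective ?_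
    rw [map_pow, map_mul, map_pow, map_neg, map_one]
    have e : ∀ k, algebraMap F K (f.coeff k) = P.coeff k := fun k => by rw [← hf', coeff_map]
    rw [e, e]
    have h1 := congrArg (fun p : K[X] => p.coeff j) (reverse_prod_linear M hM0)
    rw [← hP, ← hPφ, hu, mul_one, hn] at h1
    simp only [coeff_reverse, hPd, revAt_le hj, coeff_C_mul, coeff_map, hφ] at h1
    rw [h1, ← mul_assoc, ← mul_pow, neg_one_mul, neg_neg, one_pow, one_mul]
  haveI : Finite (Cfsg.Agent.S2386.SelfDual F q n) := Nat.finite_of_card_ne_zero (by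
    rw [Cfsg.Agent.S2386.card_selfDual hF hn0]
    exact pow_ne_zero _ (q_ne_zero hF))
  let ι := suToGU n F q
  have hdual : ∀ g : ↥(Cfsg.SU n F q), ∀ i ≤ n, g.1.1.charpoly.coeff i ^ q =
      (-1) ^ n * g.1.1.charpoly.coeff (n - i) := by
    intro g i hi
    have hst := Cfsg.Agent.S2386.st_of_mem_GU hF (ι g)
    change (g.1.1.map (conj hF))ᵀ * g.1.1 = 1 at hst
    have h1 : g.1.1⁻¹ = (g.1.1.map (conj hF))ᵀ := Matrix.inv_eq_left_inv hst
    have h2 := Matrix.charpoly_inv g.1.1 ((Matrix.isUnit_iff_isUnit_det _).2 (by rw [g.1.2]; exact isUnit_one))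
    rw [h1, Matrix.charpoly_transpose, Matrix.charpoly_map, g.1.2, Ring.inverse_one,
      ← Matrix.reverse_charpoly, Fintype.card_fin, map_one, mul_one] at h2
    have hd : g.1.1.charpoly.natDegree = n := by rw [Matrix.charpoly_natDegree_eq_dim, Fintype.card_fin]
    have h3 := congrArg (fun P : F[X] => P.coeff i) h2
    simp only [Polynomial.coeff_map, conj_apply] at h3
    rw [h3, show ((-1 : F[X]) ^ n) = Polynomial.C ((-1 : F) ^ n) by simp, Polynomial.coeff_C_mul,
      Polynomial.coeff_reverse, hd, Polynomial.revAt_le hi]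
  let X' := {c : ConjClasses ↥(Cfsg.SU n F q) // ∃ g : ↥(Cfsg.SU n F q), ConjClasses.mk g = c ∧ (orderOf g).Coprime p}
  let Φ : X' → Cfsg.Agent.S2386.SelfDual F q n := fun c => ⟨c.2.choose.1.1.charpoly,
    ⟨Matrix.charpoly_monic _, by rw [Matrix.charpoly_natDegree_eq_dim, Fintype.card_fin]⟩, hdual _⟩
  have hΦ : Function.Injective Φ := fun c d h => Subtype.ext (by
    rw [← c.2.choose_spec.1, ← d.2.choose_spec.1, ConjClasses.mk_eq_mk_iff_isConj]
    exact Cfsg.Agent.S2390.result hF p n _ _ c.2.choose_spec.2 d.2.choose_spec.2 (congrArg Subtype.val h))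
  obtain ⟨c, hc⟩ := (hΦ.bijective_of_nat_card_le (by
    rw [Cfsg.Agent.S2386.result hF p n hn0, Cfsg.Agent.S2386.card_selfDual hF hn0])).2 ⟨f, ⟨hfm, hfd⟩, hsd⟩
  refine ⟨ι c.2.choose, by rw [orderOf_injective ι suToGU_injective]; exact c.2.choose_spec.2, ?_⟩
  show (ι c.2.choose).1.1.charpoly.aroots K = M
  rw [show (ι c.2.choose).1.1.charpoly = f from congrArg Subtype.val hc, aroots_def, hf', hP,
    roots_multiset_prod_X_sub_C]

end Cfsg.Agent.Lib.Elem70.ClassCount
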