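import Cfsg.Agent.Lib.Elem70.ClassCount.OrthCount

/-!
# Arithmetic for the orthogonal class counts

Owner: helper70.
-/

set_option autoImplicit false

namespace Cfsg.Agent.Lib.Elem70.ClassCount

open Polynomial

variable {F : Type*} [Field F] [Fintype F]

/-- The parameters `d` and `s` of the counts. -/
theorem exists_ds {p q r i t : ℕ} [Fact p.Prime] [CharP F p] (hq : Nat.card F = q) (hr : r.Prime) (hr2 : r ≠ 2)
    (hrp : r ≠ p) (hi : i = orderOf (q : ZMod r)) (ht : t * i = r - 1) :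
    ∃ d s : ℕ, 0 < d ∧ 0 < s ∧ (if Odd i then i = d ∧ t / 2 = s else i = 2 * d ∧ t = s) ∧
      ∀ m, (Adm F r m).ncard = Nat.choose (m / d + s) s := by
  have hp := (Fact.out : p.Prime)
  have hR : 2 * (realRoots F r).card = r - 1 :=
    card_realRoots (p := p) hr hr2 (fun h => hrp ((Nat.prime_dvd_prime_iff_eq hp hr).1 h).symm)
  have hr3 : 2 ≤ r - 1 := by have := hr.two_le; omega
  have hi0 : 0 < i := by
    rcases Nat.eq_zero_or_pos i with h | h
    · rw [h, mul_zero] at ht; omega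
    · exact h
  have ht0 : 0 < t := by
    rcases Nat.eq_zero_or_pos t with h | h
    · rw [h, zero_mul] at ht; omega
    · exact h
  have hi' : i = orderOf (Nat.card F : ZMod r) := by rw [hq]; exact hi
  by_cases ho : Odd i
  · have hte : Even (t * i) := ht ▸ ⟨(realRoots F r).card, by omega⟩
    obtain ⟨s, hs⟩ := (Nat.even_mul.1 hte).resolve_right (Nat.not_even_iff_odd.2 ho)
    refine ⟨i, s, hi0, by omega, by rw [if_pos ho]; exact ⟨rfl, by omega⟩, fun m => ?_⟩
    refine card_adm (p := p) hr hr2 hrp hi' (if_pos ho).symm hi0 ?_ m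
    have : 2 * (realRoots F r).card = 2 * (s * i) := by rw [hR, ← ht, hs]; ring
    omega
  · obtain ⟨j, hj⟩ := Nat.not_odd_iff_even.1 ho
    refine ⟨j, t, by omega, ht0, by rw [if_neg ho]; exact ⟨by omega, rfl⟩, fun m => ?_⟩
    refine card_adm (p := p) hr hr2 hrp hi' (by rw [if_neg ho]; omega) (by omega) ?_ m
    have : 2 * (realRoots F r).card = 2 * (t * j) := by rw [hR, ← ht, hj]; ring
    omega

/-- The number of parameters once the root `2` is compulsory unless `allowed`. -/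
theorem card_good {d s r m : ℕ} (hd : 0 < d) (hs : 0 < s) (hm : 1 ≤ m)
    (hadm : ∀ k, (Adm F r k).ncard = Nat.choose (k / d + s) s) (allowed : Prop) [Decidable allowed] :
    {h ∈ Adm F r m | allowed ∨ h.eval 2 = 0}.ncard =
      Nat.choose (m / d + s) s - if ¬ allowed ∧ d ∣ m then Nat.choose (m / d + s - 1) (s - 1) else 0 := by
  obtain ⟨m, rfl⟩ : ∃ k, m = k + 1 := ⟨m - 1, by omega⟩
  by_cases ha : allowed
  · rw [if_neg (fun h => h.1 ha), Nat.sub_zero, show {h ∈ Adm F r (m + 1) | allowed ∨ h.eval 2 = 0} = Adm F r (m + 1)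
      from Set.ext fun h => ⟨fun hh => hh.1, fun hh => ⟨hh, Or.inl ha⟩⟩, hadm]
  · rw [show {h ∈ Adm F r (m + 1) | allowed ∨ h.eval 2 = 0} = {h ∈ Adm F r (m + 1) | h.eval 2 = 0}
      from Set.ext fun h => and_congr_right fun _ => or_iff_right ha, card_adm_two, hadm]
    have h1 := choose_pred (m := m) hd hs
    simp only [ha, not_false_iff, true_and]
    omega

/-- `q ^ m` modulo `r` when `q` has odd order. -/
theorem pow_cases_odd {r i m : ℕ} [Fact r.Prime] {x : ZMod r} (hr2 : r ≠ 2) (hi : i = orderOf x) (ho : Odd i) :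
    (x ^ m = 1 ↔ i ∣ m) ∧ x ^ m ≠ -1 := by
  have h1 : x ^ m = 1 ↔ i ∣ m := by rw [hi, orderOf_dvd_iff_pow_eq_one]
  refine ⟨h1, fun h => ?_⟩
  have h2 : i ∣ m * 2 := by rw [hi, orderOf_dvd_iff_pow_eq_one, pow_mul, h, neg_one_sq]
  rw [h1.2 ((Nat.coprime_two_right.2 ho).dvd_of_dvd_mul_right h2)] at h
  have : Fact (2 < r) := ⟨by have := (Fact.out : r.Prime).two_le; omega⟩
  exact ZMod.neg_one_ne_one h.symm

/-- `q ^ m` modulo `r` when `q` has even order. -/
theorem pow_cases_even {r i d m : ℕ} [Fact r.Prime] {x : ZMod r} (hr2 : r ≠ 2) (hi : i = orderOf x)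
    (hd : i = 2 * d) (hd0 : 0 < d) :
    (x ^ m = 1 ↔ d ∣ m ∧ Even (m / d)) ∧ (x ^ m = -1 ↔ d ∣ m ∧ Odd (m / d)) := by
  have : Fact (2 < r) := ⟨by have := (Fact.out : r.Prime).two_le; omega⟩
  have hdvd : ∀ k, x ^ k = 1 ↔ i ∣ k := fun k => by rw [hi, orderOf_dvd_iff_pow_eq_one]
  have hneg : x ^ d = -1 := by
    have h1 : (x ^ d) ^ 2 = 1 := by rw [← pow_mul, hdvd]; exact ⟨1, by omega⟩
    rcases sq_eq_one_iff.1 h1 with h | h
    · have := Nat.le_of_dvd hd0 ((hdvd d).1 h); omega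
    · exact h
  by_cases hdm : d ∣ m
  · obtain ⟨c, rfl⟩ := hdm
    rw [pow_mul, hneg, Nat.mul_div_cancel_left _ hd0]
    rcases Nat.even_or_odd c with hc | hc
    · simp [hc.neg_one_pow, hc, Nat.not_odd_iff_even.2 hc, ZMod.neg_one_ne_one.symm]
    · simp [hc.neg_one_pow, hc, Nat.not_even_iff_odd.2 hc, ZMod.neg_one_ne_one]
  · have h2 : ∀ y : ZMod r, y ^ 2 = 1 → x ^ m ≠ y := fun y hy h => hdm <| by
      have h3 : i ∣ m * 2 := by rw [← hdvd, pow_mul, h, hy]
      rw [hd, mul_comm m 2] at h3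
      exact Nat.dvd_of_mul_dvd_mul_left (by norm_num) h3
    exact ⟨iff_of_false (h2 1 (one_pow 2)) fun h => hdm h.1, iff_of_false (h2 (-1) neg_one_sq) fun h => hdm h.1⟩

end Cfsg.Agent.Lib.Elem70.ClassCount
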