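import Mathlib

/-!
# Counting monic polynomials with prescribed irreducible factors, or with prescribed roots

Owner: helper70.
-/

set_option autoImplicit false

namespace Cfsg.Agent.Lib.Elem70.ClassCount

open Polynomial UniqueFactorizationMonoid

variable {F : Type*} [Field F]

/-- Monic polynomials of degree `n` with all monic irreducible factors in `S ∪ {X1}`, the members of `S`
of degree `d` and `X1` of degree `1`. -/
theorem card_monic_factors [DecidableEq F] {S : Finset F[X]} {d n : ℕ} (hd : 0 < d) {X1 : F[X]}
    (hX1 : Irreducible X1) (hX1m : X1.Monic) (hX1d : X1.natDegree = 1) (hX1S : X1 ∉ S)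
    (hS : ∀ g ∈ S, Irreducible g ∧ g.Monic ∧ g.natDegree = d) :
    Nat.card {h : F[X] // h.Monic ∧ h.natDegree = n ∧ ∀ x ∈ normalizedFactors h, x = X1 ∨ x ∈ S} =
      Nat.choose (n / d + S.card) S.card := by
  classical
  let G : {g // g ∈ S} → Multiset F[X] := fun g => {g.1}
  let tg : Option {g // g ∈ S} → Multiset F[X] := fun o => o.elim (Multiset.replicate d X1) G
  set k := n / d with hk
  let mset : Sym (Option {g // g ∈ S}) k → Multiset F[X] := fun s =>
    Multiset.replicate (n - d * k) X1 + (s : Multiset (Option {g // g ∈ S})).bind tg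
  have hmem : ∀ s x, x ∈ mset s → x = X1 ∨ x ∈ S := by
    intro s x hx
    rcases Multiset.mem_add.1 hx with h | h
    · exact Or.inl (Multiset.eq_of_mem_replicate h)
    · obtain ⟨o, -, h⟩ := Multiset.mem_bind.1 h
      rcases o with _ | g
      · exact Or.inl (Multiset.eq_of_mem_replicate h)
      · exact Or.inr (Multiset.mem_singleton.1 h ▸ g.2)
  have hmon : ∀ x, x = X1 ∨ x ∈ S → Irreducible x ∧ x.Monic := by
    rintro x (rfl | h)
    · exact ⟨hX1, hX1m⟩
    · exact ⟨(hS x h).1, (hS x h).2.1⟩
  let poly : Sym (Option {g // g ∈ S}) k → F[X] := fun s => (mset s).prod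
  have hpnf : ∀ s, normalizedFactors (poly s) = mset s := fun s => by
    rw [normalizedFactors_prod_eq _ fun x hx => (hmon x (hmem s x hx)).1]
    conv_rhs => rw [← Multiset.map_id' (mset s)]
    exact Multiset.map_congr rfl fun x hx => (hmon x (hmem s x hx)).2.normalize_eq_self
  have hpm : ∀ s, (poly s).Monic := fun s => by
    have := monic_multiset_prod_of_monic (mset s) id fun x hx => (hmon x (hmem s x hx)).2
    rwa [Multiset.map_id] at this
  have hbind : ∀ m : Multiset (Option {g // g ∈ S}),
      ((m.bind tg).map natDegree).sum = d * Multiset.card m := by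
    intro m
    induction m using Multiset.induction with
    | empty => simp
    | cons a m ih =>
      rw [Multiset.cons_bind, Multiset.map_add, Multiset.sum_add, ih, Multiset.card_cons, mul_add,
        mul_one, add_comm]
      congr 1
      rcases a with _ | g
      · simp [tg, hX1d]
      · simp [tg, G, (hS _ g.2).2.2]
  have hdk : d * k ≤ n := Nat.mul_div_le n d
  have hdeg : ∀ s, (poly s).natDegree = n := fun s => by
    rw [natDegree_multiset_prod_of_monic _ fun x hx => (hmon x (hmem s x hx)).2]
    simp only [mset, Multiset.map_add, Multiset.sum_add, hbind, Multiset.map_replicate,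
      Multiset.sum_replicate, hX1d, smul_eq_mul, mul_one, Sym.card_coe]
    omega
  let Φ : Sym (Option {g // g ∈ S}) k →
      {h : F[X] // h.Monic ∧ h.natDegree = n ∧ ∀ x ∈ normalizedFactors h, x = X1 ∨ x ∈ S} :=
    fun s => ⟨poly s, hpm s, hdeg s, fun x hx => hmem s x (hpnf s ▸ hx)⟩
  have hinj : Function.Injective Φ := by
    intro s s' h
    have h2 : mset s = mset s' := by
      rw [← hpnf, ← hpnf]; exact congrArg (fun z => normalizedFactors z.1) h
    have hcnt : ∀ (u : Sym (Option {g // g ∈ S}) k) (g : {g // g ∈ S}),
        (mset u).count g.1 = (u : Multiset (Option {g // g ∈ S})).count (some g) := by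
      intro u g
      have hne : X1 ≠ g.1 := fun h => hX1S (h ▸ g.2)
      simp only [mset, Multiset.count_add, Multiset.count_replicate, if_neg hne, zero_add]
      induction (u : Multiset (Option {g // g ∈ S})) using Multiset.induction with
      | empty => simp
      | cons a m ih =>
        rw [Multiset.cons_bind, Multiset.count_add, ih, Multiset.count_cons, add_comm]
        congr 1
        rcases a with _ | g'
        · simp [tg, Multiset.count_replicate, hne]
        · simp only [tg, G, Option.elim, Multiset.count_singleton, Option.some.injEq]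
          by_cases hgg : g = g'
          · rw [if_pos hgg, if_pos (congrArg Subtype.val hgg)]
          · rw [if_neg hgg, if_neg fun h => hgg (Subtype.ext h)]
    have hsome : ∀ g, (s : Multiset (Option {g // g ∈ S})).count (some g) =
        (s' : Multiset (Option {g // g ∈ S})).count (some g) :=
      fun g => by rw [← hcnt, ← hcnt, h2]
    apply Sym.coe_injective
    refine Multiset.ext' fun o => ?_
    rcases o with _ | g
    · have hsum : ∀ u : Sym (Option {g // g ∈ S}) k, (u : Multiset (Option {g // g ∈ S})).count none
          + ∑ g, (u : Multiset (Option {g // g ∈ S})).count (some g) = k := fun u => by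
        rw [← Fintype.sum_option (f := fun o => (u : Multiset (Option {g // g ∈ S})).count o),
          Multiset.sum_count_eq_card (fun a _ => Finset.mem_univ a), Sym.card_coe]
      have a := hsum s
      have b := hsum s'
      rw [Finset.sum_congr rfl fun g _ => hsome g] at a
      omega
    · exact hsome g
  have hsurj : Function.Surjective Φ := by
    rintro ⟨P, hPm, hPd, hPf⟩
    set M := normalizedFactors P with hM
    have hMprod : M.prod = P := by rw [hM, prod_normalizedFactors_eq hPm.ne_zero, hPm.normalize_eq_self]
    set A := M.filter (fun x => x ≠ X1) with hA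
    have hAS : ∀ x ∈ A, x ∈ S := fun x hx =>
      (hPf x (Multiset.mem_filter.1 hx).1).resolve_left (Multiset.mem_filter.1 hx).2
    have hsplit : M = Multiset.replicate (M.count X1) X1 + A := by
      conv_lhs => rw [← Multiset.filter_add_not (fun x => x = X1) M, Multiset.filter_eq']
    have hn : n = M.count X1 + d * Multiset.card A := by
      have h1 : P.natDegree = n := hPd
      rw [← hMprod, natDegree_multiset_prod_of_monic _ fun x hx => (hmon x (hPf x hx)).2] at h1
      conv_lhs => rw [← h1, hsplit]
      rw [Multiset.map_add, Multiset.sum_add, Multiset.map_replicate, Multiset.sum_replicate, hX1d,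
        smul_eq_mul, mul_one, Multiset.map_congr rfl (fun x hx => (hS x (hAS x hx)).2.2),
        Multiset.map_const', Multiset.sum_replicate, smul_eq_mul, mul_comm]
    have hAk : Multiset.card A ≤ k := (Nat.le_div_iff_mul_le hd).2 (by rw [mul_comm]; omega)
    let A' : Multiset (Option {g // g ∈ S}) := A.attach.map (fun x => some ⟨x.1, hAS x.1 x.2⟩)
    let s : Sym (Option {g // g ∈ S}) k := ⟨A' + Multiset.replicate (k - Multiset.card A) none, by
      simp [A']; omega⟩
    refine ⟨s, Subtype.ext ?_⟩
    show (mset s).prod = P
    rw [← hMprod, hsplit]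
    congr 1
    have hb : A'.bind tg = A := by
      simp only [A', Multiset.bind_map, tg, G, Option.elim]
      rw [Multiset.bind_singleton, Multiset.attach_map_val]
    have hb2 : ∀ j, (Multiset.replicate j (none : Option {g // g ∈ S})).bind tg =
        Multiset.replicate (d * j) X1 := by
      intro j
      induction j with
      | zero => simp
      | succ j ih =>
        rw [Multiset.replicate_succ, Multiset.cons_bind, ih, mul_add, mul_one, add_comm (d * j),
          Multiset.replicate_add]
        rfl
    show Multiset.replicate (n - d * k) X1 +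
      (A' + Multiset.replicate (k - Multiset.card A) none).bind tg = _
    rw [Multiset.add_bind, hb, hb2, add_comm A, ← add_assoc, ← Multiset.replicate_add]
    congr 2
    have := Nat.mul_le_mul_left d hAk
    rw [Nat.mul_sub]
    omega
  rw [← Nat.card_eq_of_bijective Φ ⟨hinj, hsurj⟩, Nat.card_eq_fintype_card, Sym.card_sym_eq_choose,
    Fintype.card_option, Fintype.card_coe,
    show ∀ a b : ℕ, a + 1 + b - 1 = b + a from fun a b => by omega]
  exact Nat.choose_symm_add

/-- Monic polynomials of degree `n` with all roots (in `L`) in a set closed under conjugation, all of whose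
members have degree `d`, together with one rational root. -/
theorem card_monic_roots {L : Type*} [Field L] [Algebra F L] [IsAlgClosed L] [Algebra.IsAlgebraic F L]
    (R : Finset L) (c : F) (hc : algebraMap F L c ∉ R) {d n : ℕ} (hd : 0 < d)
    (hclosed : ∀ σ : L ≃ₐ[F] L, ∀ a ∈ R, σ a ∈ R)
    (hdeg : ∀ a ∈ R, (minpoly F a).natDegree = d) (hsep : ∀ a ∈ R, (minpoly F a).Separable) :
    Nat.card {h : F[X] // h.Monic ∧ h.natDegree = n ∧ ∀ a : L, aeval a h = 0 → a ∈ R ∨ a = algebraMap F L c} =
      Nat.choose (n / d + R.card / d) (R.card / d) := by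
  classical
  haveI : IsAlgClosure F L := ⟨inferInstance, inferInstance⟩
  haveI : Normal F L := IsAlgClosure.normal F L
  have hint : ∀ a : L, IsIntegral F a := fun a => Algebra.IsIntegral.isIntegral a
  set S := R.image (minpoly F) with hSdef
  have hS : ∀ g ∈ S, Irreducible g ∧ g.Monic ∧ g.natDegree = d := by
    intro g hg
    obtain ⟨a, ha, rfl⟩ := Finset.mem_image.1 hg
    exact ⟨minpoly.irreducible (hint a), minpoly.monic (hint a), hdeg a ha⟩
  have hconj : ∀ a ∈ R, ∀ b : L, aeval b (minpoly F a) = 0 → b ∈ R := by
    intro a ha b hb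
    obtain ⟨σ, hσ⟩ := minpoly.exists_algEquiv_of_root' (L := L) (K := F) (x := b) (y := a)
      (Algebra.IsAlgebraic.isAlgebraic a) hb
    rw [← hσ]
    exact hclosed _ a ha
  have hmp : ∀ g ∈ S, ∀ b : L, aeval b g = 0 → minpoly F b = g := fun g hg b hb =>
    (minpoly.eq_of_irreducible_of_monic (hS g hg).1 hb (hS g hg).2.1).symm
  have hX1S : X - C c ∉ S := by
    intro h
    obtain ⟨a, ha, hac⟩ := Finset.mem_image.1 h
    refine hc (hconj a ha _ ?_)
    rw [hac]; simp
  have hcardS : S.card = R.card / d := by
    have h1 : R.card = S.card * d := by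
      rw [hSdef, Finset.card_eq_sum_card_image (minpoly F) R]
      refine Finset.sum_const_nat fun g hg => ?_
      obtain ⟨a, ha, rfl⟩ := Finset.mem_image.1 hg
      have h2 : R.filter (fun b => minpoly F b = minpoly F a) = ((minpoly F a).aroots L).toFinset := by
        ext b
        rw [Finset.mem_filter, Multiset.mem_toFinset, mem_aroots]
        constructor
        · rintro ⟨-, hb⟩
          exact ⟨minpoly.ne_zero (hint a), by rw [← hb]; exact minpoly.aeval F b⟩
        · rintro ⟨-, hb⟩
          exact ⟨hconj a ha b hb, hmp _ (Finset.mem_image_of_mem _ ha) b hb⟩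
      rw [h2, aroots_def, Multiset.toFinset_card_of_nodup (nodup_roots (hsep a ha).map),
        (IsAlgClosed.splits _).natDegree_eq_card_roots.symm, natDegree_map, hdeg a ha]
    rw [h1, Nat.mul_div_cancel _ hd]
  rw [← hcardS, ← card_monic_factors (n := n) hd (irreducible_X_sub_C c) (monic_X_sub_C c)
    (natDegree_X_sub_C c) hX1S hS]
  refine Nat.card_congr (Equiv.subtypeEquivRight fun h => and_congr_right fun hm => and_congr_right fun _ => ?_)
  constructor
  · intro hroot x hx
    have hxi := irreducible_of_normalized_factor x hx
    have hxm : x.Monic := by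
      rw [← normalize_normalized_factor x hx]; exact monic_normalize hxi.ne_zero
    obtain ⟨b, hb⟩ := IsAlgClosed.exists_aeval_eq_zero L x (degree_pos_of_irreducible hxi).ne'
    have hbx : minpoly F b = x := (minpoly.eq_of_irreducible_of_monic hxi hb hxm).symm
    rcases hroot b (aeval_eq_zero_of_dvd_aeval_eq_zero (dvd_of_mem_normalizedFactors hx) hb) with hbR | hbc
    · exact Or.inr (hbx ▸ Finset.mem_image_of_mem _ hbR)
    · left
      rw [← hbx, hbc, minpoly.eq_X_sub_C]
  · intro hfac a ha
    have h1 : minpoly F a ∣ h := minpoly.dvd F a ha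
    obtain ⟨x, hx, hxa⟩ := exists_mem_normalizedFactors_of_dvd hm.ne_zero (minpoly.irreducible (hint a)) h1
    have hax : aeval a x = 0 := aeval_eq_zero_of_dvd_aeval_eq_zero hxa.dvd (minpoly.aeval F a)
    rcases hfac x hx with hx1 | hxS
    · right
      rw [hx1] at hax
      simpa [sub_eq_zero] using hax
    · left
      obtain ⟨b, hb, rfl⟩ := Finset.mem_image.1 hxS
      exact hconj b hb a hax

end Cfsg.Agent.Lib.Elem70.ClassCount
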