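import Cfsg.Agent.Lib.Elem70.ClassCount.OrthBlock
import Cfsg.Agent.Lib.Elem70.ClassCount.Polys

/-!
# Classes of elements of odd prime order in orthogonal groups

Owner: helper70.
-/

set_option autoImplicit false

namespace Cfsg.Agent.Lib.Elem70.ClassCount

open Polynomial Cfsg.Agent.Lib.Forms

variable {F : Type*} [Field F]

/-- All roots of `h` are `2` or of the form `x + x⁻¹` with `x` an `r`-th root of unity other than one. -/
def RootsOK (r : ℕ) (h : F[X]) : Prop :=
  ∀ a : AlgebraicClosure F, aeval a h = 0 → a ∈ realRoots F r ∨ a = algebraMap F (AlgebraicClosure F) 2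

/-- The parameters of degree `m`. -/
def Adm (F : Type*) [Field F] (r m : ℕ) : Set F[X] := {h | h.Monic ∧ h.natDegree = m ∧ RootsOK r h}

theorem two_not_mem_realRoots [Finite F] {r : ℕ} (hr : 0 < r) :
    algebraMap F (AlgebraicClosure F) 2 ∉ realRoots F r := by
  intro h
  obtain ⟨x, hxr, hx1, hx⟩ := (mem_realRoots hr).1 h
  have hx0 : x ≠ 0 := fun h => by rw [h, zero_pow hr.ne'] at hxr; exact zero_ne_one hxr
  have h2 : x + x⁻¹ = (1 : AlgebraicClosure F) + 1⁻¹ := by rw [hx, map_ofNat, inv_one]; norm_num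
  rcases (add_inv_eq_iff hx0 one_ne_zero).1 h2 with h | h
  · exact hx1 h
  · exact hx1 (by rw [h, inv_one])

theorem neg_two_not_mem_realRoots [Finite F] {r : ℕ} (hr : Odd r) :
    algebraMap F (AlgebraicClosure F) (-2) ∉ realRoots F r := by
  intro h
  obtain ⟨x, hxr, hx1, hx⟩ := (mem_realRoots hr.pos).1 h
  have hx0 : x ≠ 0 := fun h => by rw [h, zero_pow hr.pos.ne'] at hxr; exact zero_ne_one hxr
  have h2 : x + x⁻¹ = (-1 : AlgebraicClosure F) + (-1)⁻¹ := by
    rw [hx, map_neg, map_ofNat, inv_neg, inv_one]; norm_num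
  have hm : x = -1 := by
    rcases (add_inv_eq_iff hx0 (neg_ne_zero.2 one_ne_zero)).1 h2 with h | h
    · exact h
    · rw [h, inv_neg, inv_one]
  rw [hm, hr.neg_one_pow] at hxr
  exact hx1 (hm.trans hxr)

theorem card_adm [Fintype F] {p r i d s : ℕ} [Fact p.Prime] [CharP F p] (hr : r.Prime) (hr2 : r ≠ 2)
    (hrp : r ≠ p) (hi : i = orderOf (Nat.card F : ZMod r)) (hd : d = if Odd i then i else i / 2) (hd0 : 0 < d)
    (hs : (realRoots F r).card = s * d) (m : ℕ) : (Adm F r m).ncard = Nat.choose (m / d + s) s := by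
  classical
  rw [← Nat.card_coe_set_eq, show s = (realRoots F r).card / d by rw [hs, Nat.mul_div_cancel _ hd0]]
  exact card_monic_roots (realRoots F r) 2 (two_not_mem_realRoots hr.pos) hd0
    (fun σ a ha => realRoots_closed hr.pos σ ha)
    (fun a ha => natDegree_minpoly (p := p) hr hr2 hrp hi hd ha)
    (fun a _ => PerfectField.separable_of_irreducible
      (minpoly.irreducible (Algebra.IsIntegral.isIntegral a)))

theorem adm_finite [Fintype F] (r m : ℕ) : (Adm F r m).Finite := by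
  refine Set.Finite.subset (s := {h : F[X] | h.Monic ∧ h.natDegree = m}) ?_ fun h hh => ⟨hh.1, hh.2.1⟩
  exact Set.finite_coe_iff.1 (Finite.of_equiv _ ((monicEquivDegreeLT m).trans (degreeLTEquiv F m).toEquiv).symm)

theorem card_adm_two (r m : ℕ) :
    {h ∈ Adm F r (m + 1) | h.eval 2 = 0}.ncard = (Adm F r m).ncard := by
  refine (Set.ncard_congr (fun h _ => (X - C 2) * h) ?_ ?_ ?_).symm
  · rintro h ⟨hm, hd, hh⟩
    refine ⟨⟨(monic_X_sub_C 2).mul hm, ?_, fun a ha => ?_⟩, by simp⟩
    · rw [natDegree_mul (X_sub_C_ne_zero 2) hm.ne_zero, natDegree_X_sub_C, hd, add_comm]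
    · rw [map_mul, map_sub, aeval_X, aeval_C] at ha
      rcases mul_eq_zero.1 ha with h1 | h1
      · exact Or.inr (sub_eq_zero.1 h1)
      · exact hh a h1
  · exact fun a b _ _ e => mul_left_cancel₀ (X_sub_C_ne_zero 2) e
  · rintro h ⟨⟨hm, hd, hh⟩, h2⟩
    obtain ⟨k, rfl⟩ : X - C (2 : F) ∣ h := dvd_iff_isRoot.2 h2
    have hkm : k.Monic := (monic_X_sub_C 2).of_mul_monic_left hm
    refine ⟨k, ⟨hkm, ?_, fun a ha => hh a (by rw [map_mul, ha, mul_zero])⟩, rfl⟩
    rw [natDegree_mul (X_sub_C_ne_zero 2) hkm.ne_zero, natDegree_X_sub_C] at hd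
    omega

variable {V : Type*} [AddCommGroup V] [Module F V] [FiniteDimensional F V]

theorem ocp_root_ne_zero {Q : QuadraticForm F V} (g : orth Q) {x : AlgebraicClosure F}
    (hx : aeval x (ocp g) = 0) : x ≠ 0 := by
  rintro rfl
  have h0 : (ocp g).IsRoot 0 := by
    rw [IsRoot, ← coeff_zero_eq_eval_zero]
    rw [← coeff_zero_eq_aeval_zero', map_eq_zero] at hx
    exact hx
  obtain ⟨v, hv⟩ := ((Module.End.hasEigenvalue_iff_isRoot_charpoly _ _).2 h0).exists_hasEigenvector
  exact hv.2 (g.1.injective ((hv.apply_eq_smul).trans (by simp)))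

theorem ocp_root_of_fixed {Q : QuadraticForm F V} (g : orth Q) {v : V} (hv : g.1 v = v) (hv0 : v ≠ 0) :
    aeval (1 : AlgebraicClosure F) (ocp g) = 0 := by
  have h1 : Module.End.HasEigenvalue (g.1 : V →ₗ[F] V) 1 :=
    Module.End.hasEigenvalue_of_hasEigenvector (x := v)
      ⟨Module.End.mem_eigenspace_iff.2 (by rw [one_smul]; exact hv), hv0⟩
  have h2 : (ocp g).eval 1 = 0 := (Module.End.hasEigenvalue_iff_isRoot_charpoly _ _).1 h1
  rw [← map_one (algebraMap F (AlgebraicClosure F)), aeval_algebraMap_apply_eq_algebraMap_eval, h2, map_zero]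

/-- `g` has parameter `h`. -/
def Param {Q : QuadraticForm F V} (g : orth Q) (h : F[X]) (m e : ℕ) : Prop :=
  ∀ x : AlgebraicClosure F, x ≠ 0 → aeval x (ocp g) = x ^ m * aeval (x + x⁻¹) h * (x - 1) ^ e

theorem exists_adm_of_pow [Fintype F] {p r m e : ℕ} [Fact p.Prime] [CharP F p] {Q : QuadraticForm F V}
    (hQ : Nondeg Q) (hr : r.Prime) (hr2 : r ≠ 2) (hrp : r ≠ p) (hN : Module.finrank F V = 2 * m + e)
    (he : e ≤ 1) (he2 : e = 1 → (2 : F) ≠ 0) (g : orth Q) (hg : g ^ r = 1) :
    ∃ h ∈ Adm F r m, Param g h m e := by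
  classical
  have hodd : Odd r := hr.odd_of_ne_two hr2
  have hp := (Fact.out : p.Prime)
  have hco : (orderOf g).Coprime p :=
    Nat.Coprime.coprime_dvd_left (orderOf_dvd_of_pow_eq_one hg) ((Nat.coprime_primes hr hp).2 hrp)
  have hroot := (orth_pow_eq_one_iff (p := p) (r := r) hQ g hco).1 hg
  have hrev := ocp_reverse hQ hodd g hg
  rw [hN] at hrev
  obtain ⟨h, hm, hd, hh⟩ : ∃ h : F[X], h.Monic ∧ h.natDegree = m ∧ Param g h m e := by
    rcases Nat.le_one_iff_eq_zero_or_eq_one.1 he with rfl | rfl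
    · obtain ⟨h, hm, hd, hh⟩ := exists_param p (ocp_monic g) (by rw [ocp_natDegree, hN]; rfl) (by
        rw [hrev, add_zero, Even.neg_one_pow (even_two_mul m), one_mul])
      exact ⟨h, hm, hd, fun x hx => by rw [hh x hx, pow_zero, mul_one]⟩
    · rw [Odd.neg_one_pow ⟨m, rfl⟩, neg_one_mul] at hrev
      have h1 : (ocp g).eval 1 = 0 := by
        let _ : Invertible (1 : F) := invertibleOne
        have h1 := Polynomial.eval₂_reverse_mul_pow (RingHom.id F) (1 : F) (ocp g)
        rw [invOf_one, one_pow, mul_one, hrev, eval₂_neg, ← eval] at h1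
        have h2 : (2 : F) * (ocp g).eval 1 = 0 := by linear_combination -h1
        exact (mul_eq_zero.1 h2).resolve_left (he2 rfl)
      obtain ⟨f1, hf1⟩ : X - C (1 : F) ∣ ocp g := dvd_iff_isRoot.2 h1
      have hm1 : f1.Monic := (monic_X_sub_C 1).of_mul_monic_left (hf1 ▸ ocp_monic g)
      have hd1 : f1.natDegree = 2 * m := by
        have := ocp_natDegree g
        rw [hf1, natDegree_mul (X_sub_C_ne_zero 1) hm1.ne_zero, natDegree_X_sub_C, hN] at this
        omega
      have hX : (X - C (1 : F)).reverse = -(X - C 1) := by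
        ext n
        rw [coeff_reverse, natDegree_X_sub_C, coeff_neg]
        rcases n with _ | _ | n
        · rw [revAt_le (by omega)]; simp [coeff_one]
        · rw [revAt_le (by omega)]; simp [coeff_one]
        · rw [revAt_eq_self_of_lt (by omega)]
          simp [coeff_X, coeff_one]
      have hf1rev : f1.reverse = f1 := by
        rw [hf1, reverse_mul_of_domain, hX, neg_mul, neg_inj] at hrev
        exact mul_left_cancel₀ (X_sub_C_ne_zero 1) hrev
      obtain ⟨h, hm, hd, hh⟩ := exists_param p hm1 hd1 hf1rev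
      refine ⟨h, hm, hd, fun x hx => ?_⟩
      rw [hf1, map_mul, map_sub, aeval_X, aeval_C, map_one, hh x hx, pow_one]
      ring
  refine ⟨h, ⟨hm, hd, fun a ha => ?_⟩, hh⟩
  obtain ⟨x, hx⟩ := IsAlgClosed.exists_root (Polynomial.X ^ 2 - Polynomial.C a * Polynomial.X + 1) (by
    intro hd
    have := Polynomial.coeff_eq_zero_of_degree_lt (n := 2)
      (p := Polynomial.X ^ 2 - Polynomial.C a * Polynomial.X + 1) (by rw [hd]; norm_num)
    simp [Polynomial.coeff_one] at this)
  have hx' : x ^ 2 - a * x + 1 = 0 := by simpa using hx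
  have hx0 : x ≠ 0 := fun h0 => by rw [h0] at hx'; simp at hx'
  have hax : x + x⁻¹ = a := by
    field_simp
    linear_combination hx'
  have hxr : x ^ r = 1 := hroot x (by rw [hh x hx0, hax, ha, mul_zero, zero_mul])
  rcases eq_or_ne x 1 with rfl | hx1
  · right; rw [← hax, map_ofNat, inv_one]; norm_num
  · exact Or.inl ((mem_realRoots hr.pos).2 ⟨x, hxr, hx1, hax⟩)

theorem exists_of_adm [Fintype F] {p r m e : ℕ} [Fact p.Prime] [CharP F p] {Q : QuadraticForm F V}
    (hQ : Nondeg Q) (hr : r.Prime) (hr2 : r ≠ 2) (hrp : r ≠ p) (hN : Module.finrank F V = 2 * m + e)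
    {h : F[X]} (hh : h ∈ Adm F r m)
    (hok : h.eval 2 ≠ 0 → e = 0 → ∀ ε : ℤ, HasSign Q m ε → ((Nat.card F : ℕ) : ZMod r) ^ m = (ε : ZMod r)) :
    ∃ g : orth Q, g ^ r = 1 ∧ Param g h m e := by
  classical
  haveI := Fact.mk hr
  have hp := (Fact.out : p.Prime)
  have hodd : Odd r := hr.odd_of_ne_two hr2
  obtain ⟨hm, hd, hh⟩ := hh
  obtain ⟨h', hh', hndvd⟩ := exists_eq_pow_rootMultiplicity_mul_and_not_dvd h hm.ne_zero 2
  set a := rootMultiplicity 2 h with ha
  have hm' : h'.Monic := ((monic_X_sub_C 2).pow a).of_mul_monic_left (hh' ▸ hm)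
  have hd' : a + h'.natDegree = m := by
    rw [← hd, hh', natDegree_mul (pow_ne_zero _ (X_sub_C_ne_zero 2)) hm'.ne_zero, natDegree_pow,
      natDegree_X_sub_C, mul_one]
  have h2 : h'.eval 2 ≠ 0 := fun e => hndvd (dvd_iff_isRoot.2 e)
  have hdvd : ∀ b : AlgebraicClosure F, aeval b h' = 0 → aeval b h = 0 := fun b hb => by
    rw [hh', map_mul, hb, mul_zero]
  have hval : ∀ c : F, aeval (algebraMap F (AlgebraicClosure F) c) h' = algebraMap F _ (h'.eval c) := fun c =>
    aeval_algebraMap_apply_eq_algebraMap_eval c h'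
  have h2' : h'.eval (-2) ≠ 0 := fun e => by
    rcases hh _ (hdvd (algebraMap F (AlgebraicClosure F) (-2)) (by rw [hval, e, map_zero])) with h3 | h3
    · exact neg_two_not_mem_realRoots hodd h3
    · exact h2 ((algebraMap F (AlgebraicClosure F)).injective h3 ▸ e)
  obtain ⟨B, gB, hB, hgB, hgBp⟩ := exists_block p hm' rfl h2 h2'
  have hgBr : gB ^ r = 1 := by
    refine (orth_pow_eq_one_iff (p := p) hB gB hgB).2 fun x hx => ?_
    have hx0 := ocp_root_ne_zero gB hx
    rw [hgBp x hx0] at hx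
    rcases hh _ (hdvd _ ((mul_eq_zero.1 hx).resolve_left (pow_ne_zero _ hx0))) with h3 | h3
    · obtain ⟨y, hyr, -, hy⟩ := (mem_realRoots hr.pos).1 h3
      have hy0 : y ≠ 0 := fun h => by rw [h, zero_pow hr.pos.ne'] at hyr; exact zero_ne_one hyr
      rcases (add_inv_eq_iff hy0 hx0).1 hy with rfl | rfl
      · exact hyr
      · rw [inv_pow, inv_eq_one] at hyr; exact hyr
    · rw [show algebraMap F (AlgebraicClosure F) 2 = (1 : AlgebraicClosure F) + 1⁻¹ by
        rw [map_ofNat, inv_one]; norm_num] at h3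
      rcases (add_inv_eq_iff hx0 one_ne_zero).1 h3 with rfl | rfl <;> simp
  have hfree : ∀ v, gB.1 v = v → v = 0 := fun v hv => by
    by_contra hv0
    have h1 := ocp_root_of_fixed gB hv hv0
    rw [hgBp 1 one_ne_zero, one_pow, one_mul, inv_one,
      show (1 : AlgebraicClosure F) + 1 = algebraMap F (AlgebraicClosure F) 2 by rw [map_ofNat]; norm_num,
      hval, map_eq_zero] at h1
    exact h2 h1
  have hdimB : Module.finrank F (Fin h'.natDegree ⊕ Fin h'.natDegree → F) = 2 * h'.natDegree := by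
    simp; ring
  obtain ⟨δ, hδ⟩ : ∃ δ, HasSign B h'.natDegree δ := by
    rcases exists_hasSign hB hdimB with ⟨s, -⟩ | ⟨s, -⟩ <;> exact ⟨_, s⟩
  have hrq : ¬ r ∣ Nat.card F := by
    obtain ⟨k, -, hk⟩ := FiniteField.card F p
    rw [Nat.card_eq_fintype_card, hk]
    exact fun h => hrp ((Nat.prime_dvd_prime_iff_eq hr hp).1 (hr.dvd_of_dvd_pow h))
  have hδq := sign_of_free hδ hrq gB hgBr hfree
  obtain ⟨φ, -, hφ⟩ := exists_orth_hom hQ hB hδ (by rw [hN]; omega) fun heq => by
    have he0 : e = 0 := by omega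
    have hmm : h'.natDegree = m := by omega
    have ha0 : a = 0 := by omega
    have hne : h.eval 2 ≠ 0 := by rw [hh', ha0, pow_zero, one_mul]; exact h2
    have hδq' : ((Nat.card F : ℕ) : ZMod r) ^ m = (δ : ZMod r) := hmm ▸ hδq
    rw [hN, he0, add_zero] at heq
    obtain ⟨ε, hε⟩ : ∃ ε, HasSign Q m ε := by
      rcases exists_hasSign hQ (show Module.finrank F V = 2 * m by omega) with ⟨s, -⟩ | ⟨s, -⟩ <;>
        exact ⟨_, s⟩
    have h4 := (hok hne he0 ε hε).symm.trans hδq'
    have h5 : ε = δ := by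
      have h6 : (2 : ZMod r) ≠ 0 := fun h => hr2 ((Nat.prime_dvd_prime_iff_eq hr Nat.prime_two).1
        ((ZMod.natCast_eq_zero_iff 2 r).1 (by exact_mod_cast h)))
      rcases hε.sign with rfl | rfl <;> rcases hδ.sign with rfl | rfl <;>
        first | rfl | (exfalso; push_cast at h4; first
          | exact h6 (by linear_combination h4) | exact h6 (by linear_combination -h4))
    rw [hmm, ← h5]
    exact hε
  refine ⟨φ gB, by rw [← map_pow, hgBr, map_one], fun x hx => ?_⟩
  rw [ocp, hφ gB, map_mul, map_pow, map_sub, aeval_X, map_one, ← ocp, hgBp x hx, hh', map_mul, map_pow,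
    map_sub, aeval_X, aeval_C, hN, show 2 * m + e - 2 * h'.natDegree = 2 * a + e by omega,
    map_ofNat, ← hd']
  have key : (x - 1) ^ 2 = x * (x + x⁻¹ - 2) := by field_simp; ring
  rw [pow_add (x - 1), pow_mul, key, mul_pow, pow_add x]
  ring

/-- The classes of elements of order `r` are parametrised by admissible polynomials, the root `2`
being compulsory when the type forbids fixed-point-free elements. -/
theorem card_orth_classes [Fintype F] {p r m e : ℕ} [Fact p.Prime] [CharP F p] {Q : QuadraticForm F V}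
    (hQ : Nondeg Q) (hr : r.Prime) (hr2 : r ≠ 2) (hrp : r ≠ p) (hN : Module.finrank F V = 2 * m + e)
    (he : e ≤ 1) (he2 : e = 1 → (2 : F) ≠ 0) (allowed : Prop)
    (hok : allowed → e = 0 → ∀ ε : ℤ, HasSign Q m ε → ((Nat.card F : ℕ) : ZMod r) ^ m = (ε : ZMod r))
    (hno : ¬ allowed → e = 0 ∧ ∃ ε : ℤ, HasSign Q m ε ∧ ((Nat.card F : ℕ) : ZMod r) ^ m ≠ (ε : ZMod r)) :
    Nat.card {C : ConjClasses (orth Q) // ∃ g : orth Q, ConjClasses.mk g = C ∧ orderOf g = r} =
      {h ∈ Adm F r m | allowed ∨ h.eval 2 = 0}.ncard - 1 := by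
  classical
  haveI := Fact.mk hr
  have hp := (Fact.out : p.Prime)
  have hodd : Odd r := hr.odd_of_ne_two hr2
  have hco : ∀ g : orth Q, g ^ r = 1 → (orderOf g).Coprime p ∧ Odd (orderOf g) := fun g hg =>
    ⟨Nat.Coprime.coprime_dvd_left (orderOf_dvd_of_pow_eq_one hg) ((Nat.coprime_primes hr hp).2 hrp),
      hodd.of_dvd_nat (orderOf_dvd_of_pow_eq_one hg)⟩
  have hrq : ¬ r ∣ Nat.card F := by
    obtain ⟨k, -, hk⟩ := FiniteField.card F p
    rw [Nat.card_eq_fintype_card, hk]
    exact fun h => hrp ((Nat.prime_dvd_prime_iff_eq hr hp).1 (hr.dvd_of_dvd_pow h))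
  set S := {h ∈ Adm F r m | allowed ∨ h.eval 2 = 0} with hS
  have hfin : S.Finite := (adm_finite r m).subset fun h hh => hh.1
  have hex : ∀ h ∈ S, ∃ g : orth Q, g ^ r = 1 ∧ Param g h m e := fun h hh =>
    exists_of_adm hQ hr hr2 hrp hN hh.1 fun hne he0 => hok (hh.2.resolve_right hne) he0
  have hsurj : ∀ g : orth Q, g ^ r = 1 → ∃ h ∈ S, Param g h m e := fun g hg => by
    obtain ⟨h, hh, hpar⟩ := exists_adm_of_pow (p := p) hQ hr hr2 hrp hN he he2 g hg
    refine ⟨h, ⟨hh, ?_⟩, hpar⟩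
    by_contra hbad
    push Not at hbad
    obtain ⟨he0, ε, hε, hne⟩ := hno hbad.1
    refine hne (sign_of_free hε hrq g hg fun v hv => ?_)
    by_contra hv0
    have h1 := ocp_root_of_fixed g hv hv0
    rw [hpar 1 one_ne_zero, he0, pow_zero, mul_one, one_pow, one_mul, inv_one,
      show (1 : AlgebraicClosure F) + 1 = algebraMap F (AlgebraicClosure F) 2 by rw [map_ofNat]; norm_num,
      aeval_algebraMap_apply_eq_algebraMap_eval, map_eq_zero] at h1
    exact hbad.2 h1
  have huniq : ∀ g g' : orth Q, g ^ r = 1 → g' ^ r = 1 → ∀ h h', Param g h m e → Param g' h' m e →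
      (IsConj g g' ↔ h = h') := fun g g' hg hg' h h' hp1 hp2 => by
    constructor
    · intro hc
      have hcp := ocp_conj hc
      refine param_unique fun x hx => ?_
      rcases eq_or_ne x 1 with rfl | hx1
      · -- by continuity: agree at all other points
        have : h = h' := by
          refine Polynomial.map_injective _ (algebraMap F (AlgebraicClosure F)).injective ?_
          refine Polynomial.eq_of_infinite_eval_eq _ _ (Set.Infinite.mono
            (s := {(2 : AlgebraicClosure F)}ᶜ) (fun a ha => ?_) (Set.Finite.infinite_compl (Set.finite_singleton _)))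
          obtain ⟨y, hy⟩ := IsAlgClosed.exists_root (Polynomial.X ^ 2 - Polynomial.C a * Polynomial.X + 1) (by
            intro hd
            have := Polynomial.coeff_eq_zero_of_degree_lt (n := 2)
              (p := Polynomial.X ^ 2 - Polynomial.C a * Polynomial.X + 1) (by rw [hd]; norm_num)
            simp [Polynomial.coeff_one] at this)
          have hy' : y ^ 2 - a * y + 1 = 0 := by simpa using hy
          have hy0 : y ≠ 0 := fun h0 => by rw [h0] at hy'; simp at hy'
          have hay : y + y⁻¹ = a := by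
            field_simp
            linear_combination hy'
          have hy1 : y ≠ 1 := fun h1 => ha (by rw [Set.mem_singleton_iff, ← hay, h1, inv_one]; norm_num)
          have e1 := hp1 y hy0
          rw [hcp, hp2 y hy0] at e1
          rw [Set.mem_ofPred_eq, eval_map, eval_map, ← aeval_def, ← aeval_def, ← hay]
          exact (mul_left_cancel₀ (pow_ne_zero _ hy0)
            (mul_right_cancel₀ (pow_ne_zero _ (sub_ne_zero.2 hy1)) e1)).symm
        rw [this]
      · have e1 := hp1 x hx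
        rw [hcp, hp2 x hx] at e1
        exact (mul_left_cancel₀ (pow_ne_zero _ hx)
          (mul_right_cancel₀ (pow_ne_zero _ (sub_ne_zero.2 hx1)) e1)).symm
    · rintro rfl
      exact isConj_of_ocp (p := p) hQ g g' (hco g hg).2 (hco g hg).1 (hco g' hg').1
        (eq_of_aeval_ne_zero fun x hx => by rw [hp1 x hx, hp2 x hx])
  obtain ⟨h0, hh0, hp0⟩ := hsurj 1 (one_pow r)
  rw [← Set.ncard_diff_singleton_of_mem hh0, ← Nat.card_coe_set_eq]
  choose gh hgr hgp using hex
  refine (Nat.card_eq_of_bijective (fun h : ↥(S \ {h0}) => ⟨ConjClasses.mk (gh h.1 h.2.1), gh h.1 h.2.1, rfl,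
    orderOf_eq_prime (hgr _ _) fun e1 => h.2.2 ((huniq _ 1 (hgr _ _) (one_pow r) _ _ (hgp _ _) hp0).1
      (by rw [e1]))⟩) ⟨?_, ?_⟩).symm
  · intro a b hab
    exact Subtype.ext ((huniq _ _ (hgr _ _) (hgr _ _) _ _ (hgp _ _) (hgp _ _)).1
      (ConjClasses.mk_eq_mk_iff_isConj.1 (congrArg Subtype.val hab)))
  · rintro ⟨C, g, rfl, hg⟩
    have hgr' : g ^ r = 1 := hg ▸ pow_orderOf_eq_one g
    obtain ⟨h, hh, hpar⟩ := hsurj g hgr'
    have hne : h ≠ h0 := fun e1 => by
      rw [isConj_one_left.1 ((huniq g 1 hgr' (one_pow r) _ _ hpar hp0).2 e1), orderOf_one] at hg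
      exact hr.one_lt.ne hg
    exact ⟨⟨h, hh, hne⟩, Subtype.ext (ConjClasses.mk_eq_mk_iff_isConj.2
      ((huniq _ g (hgr _ _) hgr' _ _ (hgp _ _) hpar).2 rfl))⟩

/-- Transport along an isomorphism. -/
theorem card_classes_congr {G H : Type*} [Group G] [Group H] (e : G ≃* H) (r : ℕ) :
    Nat.card {C : ConjClasses G // ∃ g : G, ConjClasses.mk g = C ∧ orderOf g = r} =
      Nat.card {C : ConjClasses H // ∃ g : H, ConjClasses.mk g = C ∧ orderOf g = r} := by
  refine Nat.card_eq_of_bijective (fun C => ⟨ConjClasses.map e.toMonoidHom C.1, by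
    obtain ⟨g, hg, hgr⟩ := C.2
    exact ⟨e g, by rw [← hg]; rfl, by rw [e.orderOf_eq, hgr]⟩⟩) ⟨?_, ?_⟩
  · rintro ⟨C, g, rfl, hg⟩ ⟨C', g', rfl, hg'⟩ hab
    have h1 := ConjClasses.mk_eq_mk_iff_isConj.1 (congrArg Subtype.val hab :
      ConjClasses.mk (e g) = ConjClasses.mk (e g'))
    exact Subtype.ext (ConjClasses.mk_eq_mk_iff_isConj.2 (by simpa using e.symm.toMonoidHom.map_isConj h1))
  · rintro ⟨C, h, rfl, hh⟩
    exact ⟨⟨ConjClasses.mk (e.symm h), e.symm h, rfl, by rw [e.symm.orderOf_eq, hh]⟩, Subtype.ext (by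
      show ConjClasses.mk (e (e.symm h)) = _
      rw [e.apply_symm_apply])⟩

/-- Splitting off the parameters with root `2`. -/
theorem choose_pred {d m s : ℕ} (hd : 0 < d) (hs : 0 < s) :
    Nat.choose (m / d + s) s + (if d ∣ m + 1 then Nat.choose ((m + 1) / d + s - 1) (s - 1) else 0) =
      Nat.choose ((m + 1) / d + s) s := by
  rw [Nat.succ_div]
  obtain ⟨t, rfl⟩ : ∃ t, s = t + 1 := ⟨s - 1, by omega⟩
  generalize m / d = k
  split_ifs with h
  · rw [show k + 1 + (t + 1) - 1 = k + (t + 1) by omega, show t + 1 - 1 = t by omega,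
      show k + 1 + (t + 1) = (k + (t + 1)) + 1 by omega, Nat.choose_succ_succ', add_comm]
  · rw [add_zero, add_zero]

end Cfsg.Agent.Lib.Elem70.ClassCount
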