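import Cfsg.Agent.Lib.Elem70.ClassCount.GUClasses

/-!
# Classes of elements of order `r` in `PGU_n(q)`, `r ∣ q + 1`

Owner: helper70.
-/

set_option autoImplicit false

namespace Cfsg.Agent.Lib.Elem70.ClassCount

open Polynomial Matrix Cfsg.Agent.Lib.Unitary

/-- Projective classes: equal iff conjugate up to a central factor. -/
theorem mk_quot_center_eq_iff {G : Type*} [Group G] (a b : G) :
    ConjClasses.mk ((a : G ⧸ Subgroup.center G)) = ConjClasses.mk (b : G ⧸ Subgroup.center G) ↔
      ∃ z ∈ Subgroup.center G, IsConj (a * z) b := by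
  rw [ConjClasses.mk_eq_mk_iff_isConj]
  constructor
  · intro h
    obtain ⟨c, hc⟩ := isConj_iff.1 h
    obtain ⟨c, rfl⟩ := QuotientGroup.mk_surjective c
    rw [← QuotientGroup.mk_inv, ← QuotientGroup.mk_mul, ← QuotientGroup.mk_mul, QuotientGroup.eq] at hc
    refine ⟨_, hc, isConj_iff.2 ⟨c, ?_⟩⟩
    have hz := Subgroup.mem_center_iff.1 hc c
    calc c * (a * ((c * a * c⁻¹)⁻¹ * b)) * c⁻¹
        = c * a * (((c * a * c⁻¹)⁻¹ * b) * c⁻¹) := by group
      _ = c * a * (c⁻¹ * ((c * a * c⁻¹)⁻¹ * b)) := by rw [Subgroup.mem_center_iff.1 hc c⁻¹]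
      _ = b := by group
  · rintro ⟨z, hz, h⟩
    have := (QuotientGroup.mk' (Subgroup.center G)).map_isConj h
    simp only [QuotientGroup.mk'_apply, QuotientGroup.mk_mul] at this
    rwa [(QuotientGroup.eq_one_iff z).2 hz, mul_one] at this

/-- A multiset on a cycle, invariant under the rotation, is uniform. -/
theorem count_eq_of_rot {α : Type*} [CommMonoidWithZero α] [IsCancelMulZero α] [DecidableEq α] {M : Multiset α}
    {w : α} (hw : w ≠ 0) (hM : M.map (fun x => x * w) = M) (x : α) (k : ℕ) :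
    M.count (x * w ^ k) = M.count x := by
  induction k with
  | zero => rw [pow_zero, mul_one]
  | succ k ih =>
    rw [pow_succ, ← mul_assoc, ← ih]
    conv_lhs => rw [← hM]
    exact Multiset.count_map_eq_count' _ _ (mul_left_injective₀ hw) _

variable {F : Type*} [Field F] [Fintype F] {q n : ℕ}

theorem exists_diag_GU (hF : Fintype.card F = q ^ 2) (d : Fin n → F) (hd : ∀ i, d i ^ (q + 1) = 1) :
    ∃ g : ↥(Cfsg.GU n F q), g.1.1 = Matrix.diagonal d := by
  classical
  have hne : ∀ i, d i ≠ 0 := fun i h => by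
    have := hd i; rw [h, zero_pow (Nat.succ_ne_zero q)] at this; exact zero_ne_one this
  let u : GL (Fin n) F := Matrix.GeneralLinearGroup.mk'' (Matrix.diagonal d)
    (by rw [Matrix.det_diagonal]; exact isUnit_iff_ne_zero.2 (Finset.prod_ne_zero_iff.2 fun i _ => hne i))
  refine ⟨⟨u, Cfsg.Agent.S2386.mem_GU_of_st hF u ?_⟩, rfl⟩
  show ((Matrix.diagonal d).map (conj hF))ᵀ * Matrix.diagonal d = 1
  rw [Matrix.diagonal_map (map_zero _), Matrix.diagonal_transpose, Matrix.diagonal_mul_diagonal, ← Matrix.diagonal_one]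
  congr 1
  funext i
  simp [← pow_succ, hd i]

/-- Monomial matrices with norm-one entries are unitary. -/
theorem exists_mono_GU (hF : Fintype.card F = q ^ 2) (e : Equiv.Perm (Fin n)) (d : Fin n → F)
    (hd : ∀ i, d i ^ (q + 1) = 1) :
    ∃ g : ↥(Cfsg.GU n F q), ∀ v i, (g.1.1 *ᵥ v) i = d i * v (e i) := by
  classical
  obtain ⟨D, hD⟩ := exists_diag_GU hF d hd
  let u : GL (Fin n) F := Matrix.GeneralLinearGroup.mk'' (e.permMatrix F)
    (by rw [Matrix.det_permutation]; rcases Int.units_eq_one_or (Equiv.Perm.sign e) with h | h <;> simp [h])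
  have hu : u ∈ Cfsg.GU n F q := fun a b => by
    show Cfsg.hermForm n F q (u.1 *ᵥ a) (u.1 *ᵥ b) = Cfsg.hermForm n F q a b
    have hv : ∀ v : Fin n → F, u.1 *ᵥ v = v ∘ e := fun v => Matrix.permMatrix_mulVec _
    rw [hv, hv]
    exact Equiv.sum_comp e (fun i => a i * b i ^ q)
  refine ⟨D * ⟨u, hu⟩, fun v i => ?_⟩
  show ((D.1.1 * u.1) *ᵥ v) i = _
  rw [← Matrix.mulVec_mulVec, hD, Matrix.mulVec_diagonal]
  congr 1
  exact congrFun (Matrix.permMatrix_mulVec (v := v) (σ := e)) i

theorem center_GU_scalar (hF : Fintype.card F = q ^ 2) {η : F} (hη : IsPrimitiveRoot η (q + 1)) (hn : 1 ≤ n)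
    (z : ↥(Cfsg.GU n F q)) :
    z ∈ Subgroup.center ↥(Cfsg.GU n F q) ↔ ∃ a : ℕ, z.1.1 = η ^ a • (1 : Matrix (Fin n) (Fin n) F) := by
  classical
  constructor
  · intro hz
    have hcomm : ∀ g : ↥(Cfsg.GU n F q), g.1.1 * z.1.1 = z.1.1 * g.1.1 := fun g =>
      congrArg (fun x : ↥(Cfsg.GU n F q) => x.1.1) (Subgroup.mem_center_iff.1 hz g)
    have hoff : ∀ i j, i ≠ j → z.1.1 i j = 0 := fun i j hij => by
      obtain ⟨D, hD⟩ := exists_diag_GU hF (fun k => if k = i then η else 1) fun k => by
        split_ifs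
        · exact hη.pow_eq_one
        · exact one_pow _
      have h := congrFun (congrFun (hcomm D) i) j
      rw [hD, Matrix.diagonal_mul, Matrix.mul_diagonal, if_pos rfl, if_neg (Ne.symm hij), mul_one] at h
      have hne : η - 1 ≠ 0 := sub_ne_zero.2 (hη.ne_one (by have := one_lt_q hF; omega))
      exact (mul_eq_zero.1 (show (η - 1) * z.1.1 i j = 0 by linear_combination h)).resolve_left hne
    have hdiag : ∀ i j, z.1.1 i i = z.1.1 j j := fun i j => by
      obtain ⟨P, hP⟩ := exists_mono_GU hF (Equiv.swap i j) (fun _ => 1) fun _ => one_pow _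
      have h := congrFun (congrArg (fun M => M *ᵥ Pi.single j (1 : F)) (hcomm P)) i
      simp only [← Matrix.mulVec_mulVec] at h
      rw [hP, show P.1.1 *ᵥ Pi.single j (1 : F) = Pi.single i 1 from by
        funext k
        rw [hP, one_mul]
        simp [Pi.single_apply, Equiv.swap_apply_eq_iff], Equiv.swap_apply_left, one_mul] at h
      simpa [Matrix.mulVec_single] using h.symm
    let i0 : Fin n := ⟨0, hn⟩
    have hsc : z.1.1 = z.1.1 i0 i0 • (1 : Matrix (Fin n) (Fin n) F) := by
      ext i j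
      rcases eq_or_ne i j with rfl | h
      · simp [hdiag i i0]
      · simp [hoff i j h, Matrix.one_apply_ne h]
    have hnorm : z.1.1 i0 i0 ^ (q + 1) = 1 := by
      have h := Cfsg.Agent.S2386.st_of_mem_GU hF z
      rw [hsc] at h
      have := congrFun (congrFun h i0) i0
      simpa [Matrix.mul_apply, Matrix.one_apply, pow_succ, Finset.sum_ite_eq', zero_pow_q hF] using this
    obtain ⟨a, -, ha⟩ := hη.eq_pow_of_pow_eq_one hnorm
    exact ⟨a, by rw [ha]; exact hsc⟩
  · rintro ⟨a, ha⟩
    refine Subgroup.mem_center_iff.2 fun g => Subtype.ext (Units.ext ?_)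
    show g.1.1 * z.1.1 = z.1.1 * g.1.1
    rw [ha, Matrix.mul_smul, Matrix.smul_mul, Matrix.mul_one, Matrix.one_mul]

theorem eigen_smul (g h : ↥(Cfsg.GU n F q)) {c : F} (hc : c ≠ 0) (e : h.1.1 = c • g.1.1) :
    eigen h = (eigen g).map fun x => algebraMap F (AlgebraicClosure F) c * x := by
  classical
  let K := AlgebraicClosure F
  have hcc : algebraMap F K c ≠ 0 := fun h0 => hc ((map_eq_zero _).1 h0)
  have hcp : h.1.1.charpoly = g.1.1.charpoly.scaleRoots c := by
    refine Polynomial.map_injective _ (algebraMap F K).injective ?_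
    refine Polynomial.funext fun x => ?_
    rw [map_scaleRoots _ _ _ (by rw [(Matrix.charpoly_monic _).leadingCoeff, map_one]; exact one_ne_zero),
      show x = algebraMap F K c * ((algebraMap F K c)⁻¹ * x) from (mul_inv_cancel_left₀ hcc x).symm,
      Polynomial.scaleRoots_eval_mul, natDegree_map, Matrix.charpoly_natDegree_eq_dim, ← Matrix.charpoly_map,
      ← Matrix.charpoly_map, e, Matrix.eval_charpoly, Matrix.eval_charpoly, ← Matrix.det_smul]
    congr 1
    ext i j
    simp [Matrix.diagonal_apply, mul_sub]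
  have hne : ∀ x, (g.1.1.charpoly.map (algebraMap F K)).eval x = ((eigen g).map fun y => x - y).prod := fun x => by
    rw [charpoly_eq_prod, eval_multiset_prod, Multiset.map_map]
    exact congrArg Multiset.prod (Multiset.map_congr rfl fun y _ => by simp)
  have hP : h.1.1.charpoly.map (algebraMap F K) =
      (((eigen g).map fun x => algebraMap F K c * x).map fun x => X - C x).prod := by
    refine Polynomial.funext fun x => ?_
    rw [hcp, map_scaleRoots _ _ _ (by rw [(Matrix.charpoly_monic _).leadingCoeff, map_one]; exact one_ne_zero)]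
    conv_lhs => rw [show x = algebraMap F K c * ((algebraMap F K c)⁻¹ * x) from (mul_inv_cancel_left₀ hcc x).symm]
    rw [Polynomial.scaleRoots_eval_mul, natDegree_map, Matrix.charpoly_natDegree_eq_dim, Fintype.card_fin, hne,
      eval_multiset_prod, Multiset.map_map, Multiset.map_map,
      show algebraMap F K c ^ n = ((eigen g).map fun _ => algebraMap F K c).prod by
        rw [Multiset.map_const', Multiset.prod_replicate, eigen_card],
      ← Multiset.prod_map_mul]
    congr 1
    refine Multiset.map_congr rfl fun y _ => ?_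
    simp [mul_sub, mul_inv_cancel_left₀ hcc]
  show h.1.1.charpoly.aroots K = _
  rw [aroots_def, hP, roots_multiset_prod_X_sub_C]

/-- The norm-one group is cyclic of order `q + 1`. -/
theorem exists_primitiveRoot (hF : Fintype.card F = q ^ 2) : ∃ η : F, IsPrimitiveRoot η (q + 1) := by
  classical
  have hq := one_lt_q hF
  obtain ⟨g, hg⟩ := IsCyclic.exists_ofOrder_eq_natCard (α := Fˣ)
  have hprim : IsPrimitiveRoot (g : F) (q ^ 2 - 1) := by
    refine IsPrimitiveRoot.iff_orderOf.2 ?_
    rw [orderOf_units, hg, Nat.card_eq_fintype_card, Fintype.card_units, hF]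
  refine ⟨(g : F) ^ (q - 1), hprim.pow (Nat.sub_pos_of_lt (Nat.one_lt_pow two_ne_zero hq)) ?_⟩
  rw [show q ^ 2 - 1 = (q + 1) * (q - 1) by simpa using Nat.sq_sub_sq q 1, mul_comm]

open Fin.NatCast in
/-- Monomial elements with a scalar `r`-th power. -/
theorem exists_pow_eq_scalar {r k : ℕ} (hF : Fintype.card F = q ^ 2) (c : F) (hc : c ^ (q + 1) = 1) (hr : 0 < r) :
    ∃ g : ↥(Cfsg.GU (r * k) F q), g.1.1 ^ r = c • (1 : Matrix (Fin (r * k)) (Fin (r * k)) F) := by
  classical
  haveI : NeZero r := ⟨hr.ne'⟩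
  let E : Fin (r * k) ≃ Fin r × Fin k := finProdFinEquiv.symm
  let e : Equiv.Perm (Fin (r * k)) := (E.trans ((Equiv.addRight (1 : Fin r)).prodCongr (Equiv.refl _))).trans E.symm
  let d : Fin (r * k) → F := fun i => if (E i).1 = 0 then c else 1
  obtain ⟨g, hg⟩ := exists_mono_GU hF e d fun i => by
    simp only [d]; split_ifs
    · exact hc
    · exact one_pow _
  have hiter : ∀ l v i, ((g.1.1 ^ l) *ᵥ v) i =
      (∏ t ∈ Finset.range l, d (E.symm ((E i).1 + (t : Fin r), (E i).2))) *
        v (E.symm ((E i).1 + (l : Fin r), (E i).2)) := by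
    intro l
    induction l with
    | zero => intro v i; simp
    | succ l ih =>
      intro v i
      rw [pow_succ, ← Matrix.mulVec_mulVec, ih, hg, Finset.prod_range_succ, mul_assoc]
      congr 2
      simp [e, add_assoc]
  refine ⟨g, Matrix.ext_of_mulVec_single fun i0 => funext fun i => ?_⟩
  rw [hiter, Fin.natCast_self, add_zero, Prod.mk.eta, Equiv.symm_apply_apply, Matrix.smul_mulVec, Matrix.one_mulVec,
    Pi.smul_apply, smul_eq_mul]
  congr 1
  rw [← Fin.prod_univ_eq_prod_range (fun t => d (E.symm ((E i).1 + (t : Fin r), (E i).2))) r]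
  simp only [Fin.cast_val_eq_self, d, Equiv.apply_symm_apply]
  rw [Finset.prod_ite, Finset.prod_const_one, mul_one, Finset.prod_const]
  rw [show (Finset.univ.filter fun t : Fin r => (E i).1 + t = 0) = {-(E i).1} by
    ext t; rw [Finset.mem_filter, Finset.mem_singleton, add_eq_zero_iff_eq_neg']; simp, Finset.card_singleton, pow_one]

/-- The spectrum of an element whose `r`-th power is a scalar that is no `r`-th power. -/
theorem eigen_nonsplit (hF : Fintype.card F = q ^ 2) {η : F} (hη : IsPrimitiveRoot η (q + 1)) (hn : 1 ≤ n)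
    {r : ℕ} (hr : r.Prime) (hrq : r ∣ q + 1) {c : F} (hc : c ^ (q + 1) = 1)
    (hcn : ∀ y : F, y ^ (q + 1) = 1 → y ^ r ≠ c) (g : ↥(Cfsg.GU n F q))
    (hg : g.1.1 ^ r = c • (1 : Matrix (Fin n) (Fin n) F)) :
    r ∣ n ∧ eigen g = (n / r) • (nthRootsFinset r (algebraMap F (AlgebraicClosure F) c)).val := by
  classical
  let K := AlgebraicClosure F
  let j := algebraMap F K
  have hmem : ∀ x ∈ eigen g, x ^ r = j c := by
    intro x hx
    rw [mem_eigen, aeval_def, ← Polynomial.eval_map, ← Matrix.charpoly_map, Matrix.eval_charpoly,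
      ← Matrix.exists_mulVec_eq_zero_iff] at hx
    obtain ⟨v, hv, hvx⟩ := hx
    rw [Matrix.sub_mulVec, sub_eq_zero] at hvx
    have hgv : g.1.1.map j *ᵥ v = x • v := by
      rw [← hvx]; ext i; simp [Matrix.mulVec_diagonal]
    have hpow : ∀ k : ℕ, (g.1.1.map j) ^ k *ᵥ v = x ^ k • v := by
      intro k
      induction k with
      | zero => simp
      | succ k ih => rw [pow_succ', ← Matrix.mulVec_mulVec, ih, Matrix.mulVec_smul, hgv, smul_smul, pow_succ]
    have h1 := hpow r
    rw [← RingHom.mapMatrix_apply, ← map_pow, hg, RingHom.mapMatrix_apply,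
      Matrix.map_smul' _ c _ (fun a b => map_mul j a b), Matrix.map_one _ (map_zero _) (map_one _),
      Matrix.smul_mulVec, Matrix.one_mulVec] at h1
    exact (smul_left_injective K hv h1).symm
  obtain ⟨x0, hx0⟩ : ∃ x, x ∈ eigen g := Multiset.card_pos_iff_exists_mem.1 (by rw [eigen_card]; omega)
  have hne := eigen_ne_zero g hx0
  set u := x0 ^ (q + 1) with hu
  have hur : u ^ r = 1 := by rw [hu, ← pow_mul, mul_comm, pow_mul, hmem x0 hx0, ← map_pow, hc, map_one]
  have hηj : IsPrimitiveRoot (j η) (q + 1) := hη.map_of_injective j.injective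
  have hu1 : u ≠ 1 := by
    intro h
    obtain ⟨a, -, ha⟩ := hηj.eq_pow_of_pow_eq_one h
    refine hcn (η ^ a) (by rw [← pow_mul, mul_comm, pow_mul, hη.pow_eq_one, one_pow]) (j.injective ?_)
    rw [map_pow, map_pow, ha, hmem x0 hx0]
  haveI := Fact.mk hr
  have hw : IsPrimitiveRoot u⁻¹ r :=
    (IsPrimitiveRoot.iff_orderOf.2 (orderOf_eq_prime hur hu1)).inv
  have hall : ∀ y : K, y ^ r = j c → ∃ k, y = x0 * u⁻¹ ^ k := fun y hy => by
    haveI : NeZero r := ⟨hr.pos.ne'⟩
    obtain ⟨k, -, hk⟩ := hw.eq_pow_of_pow_eq_one (show (y * x0⁻¹) ^ r = 1 by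
      rw [mul_pow, hy, inv_pow, hmem x0 hx0, mul_inv_cancel₀]
      rw [← hmem x0 hx0]; exact pow_ne_zero _ hne)
    exact ⟨k, by rw [hk, mul_comm y, mul_inv_cancel_left₀ hne]⟩
  have hrot : (eigen g).map (fun x => x * u⁻¹) = eigen g := by
    have hconst : ∀ x ∈ eigen g, x ^ (q + 1) = u := fun x hx => by
      obtain ⟨k, rfl⟩ := hall x (hmem x hx)
      obtain ⟨m, hm⟩ := hrq
      rw [mul_pow, ← hu, ← pow_mul, mul_comm k, pow_mul, hm, pow_mul (u⁻¹) r, hw.pow_eq_one, one_pow, one_pow, mul_one]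
    calc (eigen g).map (fun x => x * u⁻¹) = (eigen g).map (fun x => (x ^ q)⁻¹) := by
          refine Multiset.map_congr rfl fun x hx => ?_
          rw [← hconst x hx, pow_succ, mul_inv, mul_comm x, mul_assoc, inv_mul_cancel₀ (eigen_ne_zero g hx), mul_one]
      _ = ((eigen g).map fun x => x ^ q).map (fun x => x⁻¹) := by rw [Multiset.map_map]; rfl
      _ = eigen g := by
          rw [eigen_inv hF g, Multiset.map_map]
          conv_rhs => rw [← Multiset.map_id' (eigen g)]
          exact Multiset.map_congr rfl fun x _ => inv_inv x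
  set R := nthRootsFinset r (j c) with hR
  have hRc : R.card = r := by
    have : R = (Finset.range r).image fun k => x0 * u⁻¹ ^ k := by
      ext y
      rw [hR, mem_nthRootsFinset hr.pos, Finset.mem_image]
      constructor
      · intro hy
        obtain ⟨k, rfl⟩ := hall y hy
        refine ⟨k % r, Finset.mem_range.2 (Nat.mod_lt _ hr.pos), ?_⟩
        conv_rhs => rw [← Nat.mod_add_div k r, pow_add, pow_mul, hw.pow_eq_one, one_pow, mul_one]
      · rintro ⟨k, -, rfl⟩
        rw [mul_pow, ← pow_mul, mul_comm k, pow_mul, hw.pow_eq_one, one_pow, mul_one, hmem x0 hx0]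
    rw [this, Finset.card_image_of_injOn, Finset.card_range]
    intro a ha b hb e
    exact hw.pow_inj (Finset.mem_range.1 ha) (Finset.mem_range.1 hb) (mul_left_cancel₀ hne e)
  have hcnt : ∀ y ∈ R, (eigen g).count y = (eigen g).count x0 := fun y hy => by
    obtain ⟨k, rfl⟩ := hall y ((mem_nthRootsFinset hr.pos _).1 hy)
    exact count_eq_of_rot (hw.ne_zero hr.pos.ne') hrot x0 k
  have hsum : r * (eigen g).count x0 = n := by
    conv_rhs => rw [← eigen_card g, ← Multiset.sum_count_eq_card (s := R) (fun x hx =>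
      (mem_nthRootsFinset hr.pos _).2 (hmem x hx)), Finset.sum_const_nat hcnt, hRc]
  refine ⟨Dvd.intro _ hsum, Multiset.ext.2 fun y => ?_⟩
  rw [Multiset.count_nsmul]
  by_cases hy : y ∈ R
  · rw [hcnt y hy, Multiset.count_eq_one_of_mem R.nodup hy, mul_one]
    exact (Nat.div_eq_of_eq_mul_left hr.pos (hsum.symm.trans (mul_comm _ _))).symm
  · rw [Multiset.count_eq_zero_of_notMem (show y ∉ R.val from hy), mul_zero,
      Multiset.count_eq_zero_of_notMem fun h => hy ((mem_nthRootsFinset hr.pos _).2 (hmem y h))]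

end Cfsg.Agent.Lib.Elem70.ClassCount
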